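import Groth.Agent.Lib.Helper19.An.Ev
import Groth.Agent.Lib.Helper19.CP.Constructible
import Mathlib.AlgebraicGeometry.Morphisms.FiniteType

set_option autoImplicit false
set_option linter.style.haveILetI false
open CategoryTheory AlgebraicGeometry Topology TopologicalSpace
open An

namespace Groth.Agent.Lib.Helper19.AnB

attribute [local instance] CP.top

variable {X : Scheme.{0}} [X.Over SC]

lemma continuous_evTop (a : Γ(X, ⊤)) : Continuous (fun x : Pts X => x.evTop a) := by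
  refine continuous_def.2 fun V hV => ?_
  have h := Pts.isOpen_basicSet (X := X) ⊤ a hV
  convert h using 1
  ext x
  simp only [Set.mem_preimage, Pts.basicSet, Set.mem_ofPred_eq]
  exact ⟨fun hx => ⟨Opens.mem_top _, hx⟩, fun ⟨_, hx⟩ => hx⟩

lemma continuous_evAlgHom : Continuous (evAlgHom : Pts X → (Γ(X, ⊤) →ₐ[ℂ] ℂ)) :=
  CP.continuous_iff.mpr fun a => continuous_evTop a

lemma mem_asIdeal_iff_eq_zero (p : PrimeSpectrum Γ(SC, ⊤)) (s : Γ(SC, ⊤)) :
    s ∈ p.asIdeal ↔ s = 0 := by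
  constructor
  · intro hs
    by_contra hne
    have h1 : (Scheme.ΓSpecIso (CommRingCat.of ℂ)).hom s ≠ 0 :=
      fun h => hne ((ΓSpecIso_hom_eq_zero_iff s).mp h)
    have h2 : IsUnit ((Scheme.ΓSpecIso (CommRingCat.of ℂ)).hom s) := isUnit_iff_ne_zero.mpr h1
    have h3 : IsUnit s := by
      have := h2.map (Scheme.ΓSpecIso (CommRingCat.of ℂ)).inv.hom
      rwa [← CommRingCat.comp_apply, Iso.hom_inv_id, CommRingCat.id_apply] at this
    exact p.2.ne_top (Ideal.eq_top_of_isUnit_mem _ hs h3)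
  · rintro rfl
    exact zero_mem _

lemma appLE_top_top_eq_appTop (x : Pts X) (a : Γ(X, ⊤)) :
    x.1.appLE ⊤ ⊤ (Pts.top_le_preimage x (Opens.mem_top _)) a = x.1.appTop a := by
  have : x.1.appLE ⊤ ⊤ (Pts.top_le_preimage x (Opens.mem_top _)) = x.1.appTop :=
    Scheme.Hom.appLE_eq_app x.1
  rw [this]

lemma toSpecΓ_pt (x : Pts X) : X.toSpecΓ x.pt = CP.kerPt (evAlgHom x) := by
  have hnat := Scheme.toSpecΓ_naturality x.1
  have h1 : X.toSpecΓ x.pt = (Spec.map x.1.appTop) (SC.toSpecΓ cpt) := by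
    change X.toSpecΓ (x.1 cpt) = _
    rw [← Scheme.Hom.comp_apply, hnat, Scheme.Hom.comp_apply]
  rw [h1]
  apply PrimeSpectrum.ext
  ext a
  change x.1.appTop a ∈ (SC.toSpecΓ cpt).asIdeal ↔ a ∈ RingHom.ker (evAlgHom x)
  rw [mem_asIdeal_iff_eq_zero, RingHom.mem_ker, evAlgHom_apply]
  change x.1.appTop a = 0 ↔ (Scheme.ΓSpecIso (CommRingCat.of ℂ)).hom
    (x.1.appLE ⊤ ⊤ (Pts.top_le_preimage x (Opens.mem_top _)) a) = 0
  rw [ΓSpecIso_hom_eq_zero_iff, appLE_top_top_eq_appTop]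

lemma finiteType_Γ [IsAffine X] [LocallyOfFiniteType (X ↘ SC)] :
    Algebra.FiniteType ℂ Γ(X, ⊤) := by
  have h1 : (X ↘ SC).appTop.hom.FiniteType :=
    (HasRingHomProperty.iff_of_isAffine (P := @LocallyOfFiniteType)).mp inferInstance
  have h2 : (strHom X).FiniteType := by
    unfold strHom
    exact h1.comp (RingHom.FiniteType.of_surjective _
      (ConcreteCategory.bijective_of_isIso (Scheme.ΓSpecIso (CommRingCat.of ℂ)).inv).2)
  exact h2

lemma evAlgHom_injective [IsAffine X] : Function.Injective (evAlgHom : Pts X → _) := by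
  intro x y h
  apply Subtype.ext
  apply ext_of_isAffine
  ext a
  have h1 : x.evTop a = y.evTop a := by
    rw [← evAlgHom_apply, ← evAlgHom_apply, h]
  unfold Pts.evTop Pts.ev at h1
  have h2 := (ΓSpecIso_hom_eq_zero_iff _).mp (by rw [map_sub, h1, sub_self] :
    (Scheme.ΓSpecIso (CommRingCat.of ℂ)).hom
      (x.1.appLE ⊤ ⊤ (Pts.top_le_preimage x (Opens.mem_top _)) a -
        y.1.appLE ⊤ ⊤ (Pts.top_le_preimage y (Opens.mem_top _)) a) = 0)
  rw [sub_eq_zero, appLE_top_top_eq_appTop, appLE_top_top_eq_appTop] at h2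
  exact h2

lemma evAlgHom_surjective [IsAffine X] [LocallyOfFiniteType (X ↘ SC)] :
    Function.Surjective (evAlgHom : Pts X → _) := by
  intro ψ
  let q : PrimeSpectrum Γ(X, ⊤) := CP.kerPt ψ
  have hq : IsClosed ({q} : Set (PrimeSpectrum Γ(X, ⊤))) := by
    rw [PrimeSpectrum.isClosed_singleton_iff_isMaximal]
    exact RingHom.ker_isMaximal_of_surjective (ψ : Γ(X, ⊤) →+* ℂ) (fun c =>
      ⟨algebraMap ℂ Γ(X, ⊤) c, by simp⟩)
  let e := Scheme.homeoOfIso X.isoSpec
  have hp : IsClosed ({e.symm q} : Set X) := by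
    have h := e.symm.isClosedMap _ hq
    have h' : (e.symm '' {q} : Set X) = {e.symm q} := Set.image_singleton
    exact h' ▸ h
  obtain ⟨x, hx⟩ := exists_pt_eq (e.symm q) hp
  refine ⟨x, ?_⟩
  apply CP.kerPt_injective
  rw [← toSpecΓ_pt, hx]
  exact e.apply_symm_apply q

lemma isInducing_evAlgHom [IsAffine X] :
    IsInducing (evAlgHom : Pts X → (Γ(X, ⊤) →ₐ[ℂ] ℂ)) := by
  refine ⟨le_antisymm (continuous_iff_le_induced.mp continuous_evAlgHom) ?_⟩
  refine le_generateFrom ?_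
  rintro _ ⟨U, g, V, hV, rfl⟩
  letI : TopologicalSpace (Pts X) := TopologicalSpace.induced evAlgHom (CP.top _)
  rw [isOpen_iff_forall_mem_open]
  rintro x ⟨hxU, hxV⟩
  obtain ⟨_, ⟨a, rfl⟩, hxa, haU⟩ :=
    Opens.isBasis_iff_nbhd.mp (isBasis_basicOpen X) hxU
  haveI := (isAffineOpen_top X).isLocalization_basicOpen a
  obtain ⟨⟨b, ⟨_, n, rfl⟩⟩, hb⟩ := IsLocalization.surj (Submonoid.powers a)
    (X.presheaf.map (homOfLE haU).op g)
  -- the key relation
  have key : ∀ (x' : Pts X) (hx'a : x'.pt ∈ X.basicOpen a),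
      x'.ev U (haU hx'a) g * (x'.evTop a) ^ n = x'.evTop b := by
    intro x' hx'a
    have h1 := congrArg (evRingHom x' (X.basicOpen a) hx'a) hb
    simp only [map_mul, map_pow] at h1
    have h2 : ∀ c : Γ(X, ⊤), evRingHom x' (X.basicOpen a) hx'a
        (algebraMap Γ(X, ⊤) Γ(X, X.basicOpen a) c) = x'.evTop c :=
      fun c => ev_res x' (X.basicOpen_le a) hx'a c
    have h3 : evRingHom x' (X.basicOpen a) hx'a (X.presheaf.map (homOfLE haU).op g) =
        x'.ev U (haU hx'a) g := ev_res x' haU hx'a g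
    rw [h2, h2, h3] at h1
    exact h1
  let O : Set (ℂ × ℂ) := {p | p.1 ≠ 0} ∩ (fun p : ℂ × ℂ => p.2 / p.1 ^ n) ⁻¹' V
  have hO : IsOpen O := by
    refine ContinuousOn.isOpen_inter_preimage ?_ (isOpen_ne_fun continuous_fst continuous_const) hV
    exact continuousOn_snd.div (continuousOn_fst.pow n) fun p hp => pow_ne_zero n hp
  let W : Set (Γ(X, ⊤) →ₐ[ℂ] ℂ) := (fun ψ => (ψ a, ψ b)) ⁻¹' O
  have hW : IsOpen W := hO.preimage ((CP.continuous_eval a).prodMk (CP.continuous_eval b))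
  refine ⟨evAlgHom ⁻¹' W, ?_, isOpen_induced hW, ?_⟩
  · rintro x' ⟨hx'a0, hx'V⟩
    have hx'a0' : x'.evTop a ≠ 0 := hx'a0
    have hx'a : x'.pt ∈ X.basicOpen a := (mem_basicOpen_iff_ev_ne_zero x' ⊤ _ a).mpr hx'a0'
    refine ⟨haU hx'a, ?_⟩
    have hk := key x' hx'a
    have : x'.ev U (haU hx'a) g = x'.evTop b / (x'.evTop a) ^ n := by
      rw [eq_div_iff (pow_ne_zero n hx'a0'), hk]
    rw [this]
    exact hx'V
  · have hxa0 : x.evTop a ≠ 0 := (mem_basicOpen_iff_ev_ne_zero x ⊤ _ a).mp hxa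
    refine ⟨hxa0, ?_⟩
    change x.evTop b / (x.evTop a) ^ n ∈ V
    have hk := key x hxa
    have : x.ev U hxU g = x.evTop b / (x.evTop a) ^ n := by
      rw [eq_div_iff (pow_ne_zero n hxa0), ← hk]
    rw [← this]
    exact hxV

/-- Preimages of closures along the evaluation map. -/
lemma closure_preimage_evAlgHom [IsAffine X] [LocallyOfFiniteType (X ↘ SC)]
    (S : Set (Γ(X, ⊤) →ₐ[ℂ] ℂ)) :
    closure (evAlgHom ⁻¹' S : Set (Pts X)) = evAlgHom ⁻¹' closure S := by
  rw [isInducing_evAlgHom.closure_eq_preimage_closure_image,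
    Set.image_preimage_eq S evAlgHom_surjective]

end Groth.Agent.Lib.Helper19.AnB
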