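import Groth.Prelude.Def_AnPts
import Mathlib.AlgebraicGeometry.AlgClosed.Basic
import Mathlib.AlgebraicGeometry.Morphisms.ClosedImmersion
import Mathlib.AlgebraicGeometry.Morphisms.Immersion
import Mathlib.Analysis.Complex.Polynomial.Basic

set_option autoImplicit false
open CategoryTheory AlgebraicGeometry Topology TopologicalSpace
open An

namespace Groth.Agent.Lib.Helper19.AnB

variable {X : Scheme.{0}} [X.Over SC]

lemma cpt_eq_closedPoint : (cpt : ↥SC) = IsLocalRing.closedPoint ℂ :=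
  Subsingleton.elim (α := PrimeSpectrum ℂ) _ _

lemma ev_res (x : Pts X) {U U' : X.Opens} (hUU' : U' ≤ U) (h' : x.pt ∈ U') (g : Γ(X, U)) :
    x.ev U' h' (X.presheaf.map (homOfLE hUU').op g) = x.ev U (hUU' h') g := by
  unfold Pts.ev
  congr 1
  rw [← ConcreteCategory.comp_apply, Scheme.Hom.map_appLE]

lemma basicSet_res {U U' : X.Opens} (hUU' : U' ≤ U) (g : Γ(X, U)) (V : Set ℂ) :
    Pts.basicSet U' (X.presheaf.map (homOfLE hUU').op g) V =
      Pts.basicSet U g V ∩ Pts.pt ⁻¹' (U' : Set X) := by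
  ext x
  constructor
  · rintro ⟨h, hv⟩
    refine ⟨⟨hUU' h, ?_⟩, h⟩
    rwa [ev_res] at hv
  · rintro ⟨⟨h, hv⟩, h'⟩
    refine ⟨h', ?_⟩
    rwa [ev_res]

section lft

variable [LocallyOfFiniteType (X ↘ SC)]

lemma pt_injective : Function.Injective (Pts.pt : Pts X → X) := by
  intro x y h
  apply Subtype.ext
  refine ext_of_apply_closedPoint_eq (X ↘ SC) x.2 y.2 ?_
  rw [← cpt_eq_closedPoint]
  exact h

lemma isClosed_singleton_pt (x : Pts X) : IsClosed ({x.pt} : Set X) := by
  have h := (pointEquivClosedPoint (X ↘ SC) ⟨x.1, x.2⟩).2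
  rw [mem_closedPoints_iff] at h
  convert h using 2
  change x.1 cpt = x.1 (IsLocalRing.closedPoint ℂ)
  rw [cpt_eq_closedPoint]

lemma exists_pt_eq (p : X) (hp : IsClosed ({p} : Set X)) : ∃ x : Pts X, x.pt = p := by
  refine ⟨⟨pointOfClosedPoint (X ↘ SC) p hp, pointOfClosedPoint_comp _ _ _⟩, ?_⟩
  change pointOfClosedPoint (X ↘ SC) p hp cpt = p
  exact pointOfClosedPoint_apply _ _ _ _

lemma range_pt : Set.range (Pts.pt : Pts X → X) = closedPoints X := by
  ext p
  constructor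
  · rintro ⟨x, rfl⟩
    exact isClosed_singleton_pt x
  · intro hp
    exact exists_pt_eq p hp

end lft

end Groth.Agent.Lib.Helper19.AnB
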