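import Groth.Agent.Lib.Helper19.An.OpenImm
import Mathlib.AlgebraicGeometry.IdealSheaf.Basic
import Mathlib.AlgebraicGeometry.Properties

set_option autoImplicit false
open CategoryTheory AlgebraicGeometry Topology TopologicalSpace
open An

namespace Groth.Agent.Lib.Helper19.AnB

variable {X Y : Scheme.{0}}

lemma ker_le_ker_of_mem_range (f : X ⟶ Y) (y : SC ⟶ Y)
    (hy : y cpt ∈ Set.range f) : f.ker ≤ y.ker := by
  refine Scheme.IdealSheafData.le_ofIdeals_iff.mpr fun W => (f.ideal_ker_le W).trans ?_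
  intro s hs
  rw [RingHom.mem_ker] at hs ⊢
  have hbot : SC.basicOpen (y.app W.1 s) = ⊥ := by
    rw [← Scheme.preimage_basicOpen]
    ext p
    simp only [Opens.coe_bot, Set.mem_empty_iff_false, iff_false]
    intro hp
    change y p ∈ Y.basicOpen s at hp
    rw [eq_cpt p] at hp
    obtain ⟨x0, hx0⟩ := hy
    rw [← hx0] at hp
    have : x0 ∈ f ⁻¹ᵁ Y.basicOpen s := hp
    rw [Scheme.preimage_basicOpen, hs] at this
    simp at this
  exact (basicOpen_eq_bot_iff _).mp hbot

variable [X.Over SC] [Y.Over SC]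

lemma range_map_of_isClosedImmersion (f : X ⟶ Y) [f.IsOver SC] [IsClosedImmersion f] :
    Set.range (Pts.map f) = Pts.pt ⁻¹' (Set.range f) := by
  ext y
  constructor
  · rintro ⟨x, rfl⟩
    rw [Set.mem_preimage, Pts.pt_map]
    exact ⟨_, rfl⟩
  · intro hy
    have hker : f.ker ≤ y.1.ker := ker_le_ker_of_mem_range f y.1 hy
    refine ⟨⟨IsClosedImmersion.lift f y.1 hker, ?_⟩, Subtype.ext (IsClosedImmersion.lift_fac _ _ _)⟩
    rw [← comp_over f, ← Category.assoc, IsClosedImmersion.lift_fac, y.2]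

lemma isInducing_map_of_isClosedImmersion (f : X ⟶ Y) [f.IsOver SC] [IsClosedImmersion f] :
    IsInducing (Pts.map f) := by
  refine ⟨le_antisymm (continuous_iff_le_induced.mp (Pts.continuous_map f)) ?_⟩
  refine le_generateFrom ?_
  rintro _ ⟨U, g, V, hV, rfl⟩
  letI : TopologicalSpace (Pts X) := TopologicalSpace.induced (Pts.map f) inferInstance
  rw [isOpen_iff_forall_mem_open]
  intro x hx
  obtain ⟨hxU, hxV⟩ := hx
  -- U is the preimage of an open of Y
  obtain ⟨U', hU'o, hU'⟩ := f.isEmbedding.isInducing.isOpen_iff.mp U.2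
  have hfx : f x.pt ∈ (⟨U', hU'o⟩ : Y.Opens) := by
    change x.pt ∈ f ⁻¹' U'
    rw [hU']
    exact hxU
  obtain ⟨_, ⟨W, hW : IsAffineOpen W, rfl⟩, hfxW, hWU'⟩ :=
    Y.isBasis_affineOpens.exists_subset_of_mem_open hfx hU'o
  have hle : f ⁻¹ᵁ W ≤ U := by
    intro p hp
    have : p ∈ f ⁻¹' U' := hWU' hp
    rw [hU'] at this
    exact this
  obtain ⟨g', hg'⟩ := f.app_surjective W hW (X.presheaf.map (homOfLE hle).op g)
  refine ⟨Pts.map f ⁻¹' Pts.basicSet W g' V, ?_, ?_, ?_⟩
  · rw [Pts.preimage_basicSet, hg', basicSet_res]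
    exact Set.inter_subset_left
  · exact isOpen_induced (Pts.isOpen_basicSet _ _ hV)
  · rw [Pts.preimage_basicSet, hg', basicSet_res]
    exact ⟨⟨hxU, hxV⟩, hfxW⟩

theorem isClosedEmbedding_map (f : X ⟶ Y) [f.IsOver SC] [IsClosedImmersion f] :
    IsClosedEmbedding (Pts.map f) := by
  refine ⟨⟨isInducing_map_of_isClosedImmersion f, map_injective_of_mono f⟩, ?_⟩
  rw [range_map_of_isClosedImmersion]
  exact f.isClosedEmbedding.isClosed_range.preimage Pts.continuous_pt

end Groth.Agent.Lib.Helper19.AnB
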