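import Groth.Agent.Lib.Helper19.An.Affine
import Mathlib.AlgebraicGeometry.Noetherian
import Mathlib.AlgebraicGeometry.QuasiAffine

set_option autoImplicit false
set_option linter.style.haveILetI false
open CategoryTheory AlgebraicGeometry Topology TopologicalSpace
open An

namespace Groth.Agent.Lib.Helper19.AnB

attribute [local instance] CP.top

variable {X : Scheme.{0}} [X.Over SC]

theorem mem_closure_of_isAffine [IsAffine X] [LocallyOfFiniteType (X ↘ SC)] (T : Set X)
    (hT : IsConstructible T) (x : Pts X) (hx : x.pt ∈ closure T) :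
    x ∈ closure (Pts.pt ⁻¹' T) := by
  haveI := finiteType_Γ (X := X)
  let e : X ≃ₜ PrimeSpectrum Γ(X, ⊤) := Scheme.homeoOfIso X.isoSpec
  let T' : Set (PrimeSpectrum Γ(X, ⊤)) := e.symm ⁻¹' T
  have hT' : IsConstructible T' :=
    hT.preimage_of_isOpenEmbedding e.symm.isOpenEmbedding
  have he : ∀ y : Pts X, e y.pt = CP.kerPt (evAlgHom y) := fun y => toSpecΓ_pt y
  have hpre : evAlgHom ⁻¹' (CP.kerPt ⁻¹' T') = Pts.pt ⁻¹' T := by
    ext y
    simp only [Set.mem_preimage, T']
    rw [← he y, e.symm_apply_apply]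
  have hx' : CP.kerPt (evAlgHom x) ∈ closure T' := by
    rw [← he x, ← e.symm.preimage_closure, Set.mem_preimage, e.symm_apply_apply]
    exact hx
  have h2 := CP.preimage_closure_subset_of_isConstructible T' hT' hx'
  rw [← hpre, closure_preimage_evAlgHom]
  exact h2

theorem preimage_closure_eq [LocallyOfFiniteType (X ↘ SC)] (T : Set X)
    (hT : IsLocallyConstructible T) :
    (Pts.pt ⁻¹' closure T : Set (Pts X)) = closure (Pts.pt ⁻¹' T) := by
  apply subset_antisymm
  · intro x hx
    obtain ⟨_, ⟨(U : X.Opens), hU : IsAffineOpen U, rfl⟩, hxU, -⟩ :=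
      X.isBasis_affineOpens.exists_subset_of_mem_open (Set.mem_univ x.pt) isOpen_univ
    letI : (U : Scheme.{0}).Over SC := ⟨U.ι ≫ X ↘ SC⟩
    haveI : U.ι.IsOver SC := ⟨rfl⟩
    haveI : IsAffine (U : Scheme.{0}) := hU
    haveI : LocallyOfFiniteType ((U : Scheme.{0}) ↘ SC) := by
      change LocallyOfFiniteType (U.ι ≫ X ↘ SC)
      infer_instance
    have hxr : x ∈ Set.range (Pts.map U.ι) := by
      rw [range_map_of_isOpenImmersion]
      change x.pt ∈ Set.range U.ι
      rw [Scheme.Opens.range_ι]
      exact hxU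
    obtain ⟨x', rfl⟩ := hxr
    let TU : Set U := U.ι ⁻¹' T
    have hTU : IsConstructible TU :=
      (hT.preimage_of_isOpenEmbedding U.ι.isOpenEmbedding).isConstructible
    have hx' : x'.pt ∈ closure TU := by
      rw [← U.ι.isOpenEmbedding.isOpenMap.preimage_closure_eq_closure_preimage U.ι.continuous,
        Set.mem_preimage, ← Pts.pt_map]
      exact hx
    have h1 := mem_closure_of_isAffine TU hTU x' hx'
    have h2 : Pts.map U.ι '' (Pts.pt ⁻¹' TU) ⊆ Pts.pt ⁻¹' T := by
      rintro _ ⟨y, hy, rfl⟩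
      rw [Set.mem_preimage, Pts.pt_map]
      exact hy
    exact closure_mono h2
      (image_closure_subset_closure_image (Pts.continuous_map U.ι) ⟨x', h1, rfl⟩)
  · exact closure_minimal (Set.preimage_mono subset_closure)
      (isClosed_closure.preimage Pts.continuous_pt)

end Groth.Agent.Lib.Helper19.AnB
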