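import Groth.Agent.Lib.Helper19.An.Closure
import Mathlib.Topology.JacobsonSpace
import Mathlib.Topology.LocallyClosed

set_option autoImplicit false
set_option linter.style.haveILetI false
open CategoryTheory AlgebraicGeometry Topology TopologicalSpace
open An

namespace Groth.Agent.Lib.Helper19.AnB

section top

variable {Y : Type*} [TopologicalSpace Y]

lemma isLocallyConstructible_compl {s : Set Y} (hs : IsLocallyConstructible s) :
    IsLocallyConstructible sᶜ := by
  intro x
  obtain ⟨U, hxU, hU, hsU⟩ := hs x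
  exact ⟨U, hxU, hU, by rw [Set.preimage_compl]; exact hsU.compl⟩

/-- In a compact quasi-separated prespectral space, each point of a constructible set lies in a
locally closed subset of that set. -/
lemma exists_isLocallyClosed_of_isConstructible [CompactSpace Y] [QuasiSeparatedSpace Y]
    [PrespectralSpace Y] {s : Set Y} (hs : IsConstructible s) :
    ∀ p ∈ s, ∃ L, IsLocallyClosed L ∧ p ∈ L ∧ L ⊆ s := by
  haveI : Nonempty {U : Set Y // IsOpen U ∧ IsCompact U} := ⟨⟨∅, isOpen_empty, isCompact_empty⟩⟩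
  induction s, hs using IsConstructible.induction_of_isTopologicalBasis
    (fun U : {U : Set Y // IsOpen U ∧ IsCompact U} => (U : Set Y))
    (by simpa using PrespectralSpace.isTopologicalBasis (X := Y)) (fun U => U.2.2) with
  | sdiff U s hs =>
    intro p hp
    refine ⟨_, ?_, hp, subset_rfl⟩
    exact U.2.1.isLocallyClosed.inter
      (isOpen_biUnion fun j _ => j.2.1).isClosed_compl.isLocallyClosed
  | union s hs t ht ihs iht =>
    rintro p (hp | hp)
    · obtain ⟨L, hL, hpL, hLs⟩ := ihs p hp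
      exact ⟨L, hL, hpL, hLs.trans Set.subset_union_left⟩
    · obtain ⟨L, hL, hpL, hLt⟩ := iht p hp
      exact ⟨L, hL, hpL, hLt.trans Set.subset_union_right⟩

end top

variable {X : Scheme.{0}}

lemma exists_isLocallyClosed_of_isLocallyConstructible {T : Set X}
    (hT : IsLocallyConstructible T) {p : X} (hp : p ∈ T) :
    ∃ L, IsLocallyClosed L ∧ p ∈ L ∧ L ⊆ T := by
  obtain ⟨_, ⟨(U : X.Opens), hU : IsAffineOpen U, rfl⟩, hpU, -⟩ :=
    X.isBasis_affineOpens.exists_subset_of_mem_open (Set.mem_univ p) isOpen_univ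
  haveI : IsAffine (U : Scheme.{0}) := hU
  have hTU : IsConstructible (U.ι ⁻¹' T) :=
    (hT.preimage_of_isOpenEmbedding U.ι.isOpenEmbedding).isConstructible
  obtain ⟨L, hL, hpL, hLT⟩ := exists_isLocallyClosed_of_isConstructible hTU ⟨p, hpU⟩ hp
  refine ⟨U.ι '' L, hL.image U.ι.isOpenEmbedding.isInducing
    U.ι.isOpenEmbedding.isOpen_range.isLocallyClosed, ⟨⟨p, hpU⟩, hpL, rfl⟩, ?_⟩
  rintro _ ⟨y, hy, rfl⟩
  exact hLT hy

variable [X.Over SC] [LocallyOfFiniteType (X ↘ SC)]

lemma jacobsonSpace : JacobsonSpace X := LocallyOfFiniteType.jacobsonSpace (X ↘ SC)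

/-- A locally constructible set meeting a closed set meets it in a complex point. -/
lemma exists_pt_mem_of_nonempty {T Z : Set X} (hT : IsLocallyConstructible T) (hZ : IsClosed Z)
    (hne : (T ∩ Z).Nonempty) : ∃ y : Pts X, y.pt ∈ T ∩ Z := by
  haveI := jacobsonSpace (X := X)
  obtain ⟨p, hpT, hpZ⟩ := hne
  obtain ⟨L, hL, hpL, hLT⟩ := exists_isLocallyClosed_of_isLocallyConstructible hT hpT
  obtain ⟨c, ⟨hcL, hcZ⟩, hc⟩ := nonempty_inter_closedPoints (Z := L ∩ Z) ⟨p, hpL, hpZ⟩
    (hL.inter hZ.isLocallyClosed)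
  obtain ⟨y, rfl⟩ := exists_pt_eq c hc
  exact ⟨y, hLT hcL, hcZ⟩

theorem isOpen_iff_isOpen_preimage_pt (T : Set X) (hT : IsLocallyConstructible T) :
    IsOpen T ↔ IsOpen (Pts.pt ⁻¹' T : Set (Pts X)) := by
  refine ⟨fun h => h.preimage Pts.continuous_pt, fun h => ?_⟩
  have hC : IsLocallyConstructible Tᶜ := isLocallyConstructible_compl hT
  have h1 := preimage_closure_eq Tᶜ hC
  have h2 : IsClosed (Pts.pt ⁻¹' Tᶜ : Set (Pts X)) := by
    rw [Set.preimage_compl]
    exact h.isClosed_compl
  rw [h2.closure_eq] at h1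
  have h3 : T ∩ closure Tᶜ = ∅ := by
    by_contra hne
    obtain ⟨y, hyT, hyC⟩ := exists_pt_mem_of_nonempty hT isClosed_closure
      (Set.nonempty_iff_ne_empty.mpr hne)
    have : y ∈ Pts.pt ⁻¹' closure Tᶜ := hyC
    rw [h1] at this
    exact this hyT
  have h4 : closure Tᶜ ⊆ Tᶜ := fun p hp hpT => by
    have : p ∈ T ∩ closure Tᶜ := ⟨hpT, hp⟩
    rw [h3] at this
    exact this
  have h5 : IsClosed Tᶜ := closure_subset_iff_isClosed.mp h4
  exact isClosed_compl_iff.mp h5

theorem dense_iff_dense_preimage_pt (T : Set X) (hT : IsLocallyConstructible T) :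
    Dense T ↔ Dense (Pts.pt ⁻¹' T : Set (Pts X)) := by
  haveI := jacobsonSpace (X := X)
  have h1 := preimage_closure_eq T hT
  rw [dense_iff_closure_eq, dense_iff_closure_eq, ← h1]
  constructor
  · intro h
    rw [h, Set.preimage_univ]
  · intro h
    have h2 : closedPoints X ⊆ closure T := by
      intro c hc
      obtain ⟨y, rfl⟩ := exists_pt_eq c hc
      have : y ∈ Pts.pt ⁻¹' closure T := by rw [h]; trivial
      exact this
    have h3 := closure_minimal h2 isClosed_closure
    rw [closure_closedPoints] at h3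
    exact Set.eq_univ_of_univ_subset h3

end Groth.Agent.Lib.Helper19.AnB
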