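import Groth.Agent.Lib.Helper19.An.Jacobson
import Mathlib.AlgebraicGeometry.PullbackCarrier
import Mathlib.AlgebraicGeometry.Morphisms.FinitePresentation

set_option autoImplicit false
set_option linter.style.haveILetI false
open CategoryTheory AlgebraicGeometry Topology TopologicalSpace
open An

namespace Groth.Agent.Lib.Helper19.AnB

variable {X Y : Scheme.{0}} [X.Over SC] [Y.Over SC]

lemma exists_pt_of_nonempty [LocallyOfFiniteType (X ↘ SC)] [Nonempty X] : Nonempty (Pts X) := by
  haveI := jacobsonSpace (X := X)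
  have h : (closedPoints X).Nonempty := by
    by_contra hne
    rw [Set.not_nonempty_iff_eq_empty] at hne
    have := closure_closedPoints (X := X)
    rw [hne, closure_empty] at this
    exact Set.empty_ne_univ this
  obtain ⟨c, hc⟩ := h
  obtain ⟨y, -⟩ := exists_pt_eq c hc
  exact ⟨y⟩

lemma isLocallyNoetherian [LocallyOfFiniteType (X ↘ SC)] : IsLocallyNoetherian X :=
  LocallyOfFiniteType.isLocallyNoetherian (X ↘ SC)

lemma locallyOfFiniteType_of_isOver [LocallyOfFiniteType (X ↘ SC)] (f : X ⟶ Y) [f.IsOver SC] :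
    LocallyOfFiniteType f := by
  have : LocallyOfFiniteType (f ≫ Y ↘ SC) := by rw [comp_over f]; infer_instance
  exact locallyOfFiniteType_of_comp f (Y ↘ SC)

/-- A complex point of `Y` whose underlying point is in the image of `f` lifts to `X`. -/
lemma exists_map_eq_of_mem_range [LocallyOfFiniteType (X ↘ SC)] (f : X ⟶ Y) [f.IsOver SC]
    (y : Pts Y) (hy : y.pt ∈ Set.range f) : ∃ x : Pts X, Pts.map f x = y := by
  haveI := locallyOfFiniteType_of_isOver f
  obtain ⟨p, hp⟩ := hy
  obtain ⟨z, -, -⟩ := Scheme.Pullback.exists_preimage_pullback (f := f) (g := y.1) p cpt hp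
  letI : (Limits.pullback f y.1).Over SC := ⟨Limits.pullback.snd f y.1⟩
  haveI : LocallyOfFiniteType ((Limits.pullback f y.1) ↘ SC) := by
    change LocallyOfFiniteType (Limits.pullback.snd f y.1)
    infer_instance
  haveI : Nonempty (Limits.pullback f y.1 : Scheme.{0}) := ⟨z⟩
  obtain ⟨w⟩ := exists_pt_of_nonempty (X := Limits.pullback f y.1)
  have hw : w.1 ≫ Limits.pullback.snd f y.1 = 𝟙 SC := w.2
  have hxy : (w.1 ≫ Limits.pullback.fst f y.1) ≫ f = y.1 := by
    rw [Category.assoc, Limits.pullback.condition, ← Category.assoc, hw, Category.id_comp]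
  refine ⟨⟨w.1 ≫ Limits.pullback.fst f y.1, ?_⟩, Subtype.ext hxy⟩
  rw [← comp_over f, ← Category.assoc, hxy, y.2]

lemma range_map_eq [LocallyOfFiniteType (X ↘ SC)] (f : X ⟶ Y) [f.IsOver SC] :
    Set.range (Pts.map f) = Pts.pt ⁻¹' Set.range f := by
  ext y
  constructor
  · rintro ⟨x, rfl⟩
    rw [Set.mem_preimage, Pts.pt_map]
    exact ⟨_, rfl⟩
  · intro hy
    exact exists_map_eq_of_mem_range f y hy

lemma isLocallyConstructible_range [LocallyOfFiniteType (X ↘ SC)] [LocallyOfFiniteType (Y ↘ SC)]
    (f : X ⟶ Y) [f.IsOver SC] [QuasiCompact f] : IsLocallyConstructible (Set.range f) := by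
  haveI := locallyOfFiniteType_of_isOver f
  haveI := isLocallyNoetherian (X := Y)
  rw [← Set.image_univ]
  exact f.isLocallyConstructible_image IsLocallyConstructible.univ

theorem surjective_iff [LocallyOfFiniteType (X ↘ SC)] [LocallyOfFiniteType (Y ↘ SC)]
    (f : X ⟶ Y) [f.IsOver SC] [QuasiCompact f] :
    Function.Surjective f.base ↔ Function.Surjective (Pts.map f) := by
  constructor
  · intro h y
    exact exists_map_eq_of_mem_range f y (h y.pt)
  · intro h
    have hC : IsLocallyConstructible (Set.range f)ᶜ :=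
      isLocallyConstructible_compl (isLocallyConstructible_range f)
    by_contra hns
    have hne : ((Set.range f)ᶜ ∩ Set.univ).Nonempty := by
      rw [Set.inter_univ, Set.nonempty_compl]
      intro huniv
      exact hns (Set.range_eq_univ.mp huniv)
    obtain ⟨y, hy, -⟩ := exists_pt_mem_of_nonempty hC isClosed_univ hne
    obtain ⟨x, rfl⟩ := h y
    apply hy
    rw [Pts.pt_map]
    exact ⟨_, rfl⟩

theorem denseRange_iff [LocallyOfFiniteType (X ↘ SC)] [LocallyOfFiniteType (Y ↘ SC)]
    (f : X ⟶ Y) [f.IsOver SC] [QuasiCompact f] :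
    DenseRange f.base ↔ DenseRange (Pts.map f) := by
  unfold DenseRange
  rw [range_map_eq]
  exact dense_iff_dense_preimage_pt _ (isLocallyConstructible_range f)

theorem nonempty_iff [LocallyOfFiniteType (X ↘ SC)] : Nonempty X ↔ Nonempty (Pts X) :=
  ⟨fun _ => exists_pt_of_nonempty, fun ⟨x⟩ => ⟨x.pt⟩⟩

end Groth.Agent.Lib.Helper19.AnB
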