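import Groth.Agent.Lib.Helper19.An.Affine

set_option autoImplicit false
set_option linter.style.haveILetI false
open CategoryTheory AlgebraicGeometry Topology TopologicalSpace
open An

namespace Groth.Agent.Lib.Helper19.AnB

variable {X : Scheme.{0}} [X.Over SC]

open Classical in
/-- Evaluation of a section over `U`, extended by zero outside `U(ℂ)`. -/
noncomputable def evD (U : X.Opens) (a : Γ(X, U)) (x : Pts X) : ℂ :=
  if h : x.pt ∈ U then x.ev U h a else 0

lemma evD_of_mem {U : X.Opens} (a : Γ(X, U)) {x : Pts X} (h : x.pt ∈ U) :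
    evD U a x = x.ev U h a := dif_pos h

lemma continuousOn_evD (U : X.Opens) (a : Γ(X, U)) :
    ContinuousOn (evD U a) (Pts.pt ⁻¹' (U : Set X)) := by
  rw [continuousOn_open_iff (Pts.isOpen_preimage_pt U)]
  intro V hV
  convert Pts.isOpen_basicSet U a hV using 1
  ext x
  constructor
  · rintro ⟨hx, hv⟩
    refine ⟨hx, ?_⟩
    rw [Set.mem_preimage, evD_of_mem a hx] at hv
    exact hv
  · rintro ⟨hx, hv⟩
    refine ⟨hx, ?_⟩
    rw [Set.mem_preimage, evD_of_mem a hx]
    exact hv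

lemma ev_appLE {Y : Scheme.{0}} [Y.Over SC] (g : X ⟶ Y) [g.IsOver SC] (x : Pts X) (U : Y.Opens)
    (V : X.Opens) (e : V ≤ g ⁻¹ᵁ U) (hV : x.pt ∈ V) (a : Γ(Y, U)) :
    x.ev V hV (g.appLE U V e a) =
      (Pts.map g x).ev U (by rw [Pts.pt_map]; exact e hV) a := by
  unfold Pts.ev
  congr 1
  rw [← CommRingCat.comp_apply, Scheme.Hom.appLE_comp_appLE]
  rfl

/-- A map into the space of complex points is continuous as soon as, locally on the source, it
lands in the points of an affine open and all the sections over that affine open pull back to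
continuous functions. -/
theorem continuous_of_affine_local {Z : Type*} [TopologicalSpace Z] (σ : Z → Pts X)
    (H : ∀ z : Z, ∃ U : X.Opens, IsAffineOpen U ∧ (σ z).pt ∈ U ∧
      IsOpen (σ ⁻¹' (Pts.pt ⁻¹' (U : Set X))) ∧
      ∀ a : Γ(X, U), ContinuousOn (fun z' => evD U a (σ z')) (σ ⁻¹' (Pts.pt ⁻¹' (U : Set X)))) :
    Continuous σ := by
  refine continuous_generateFrom_iff.2 ?_
  rintro _ ⟨W, g, V, hV, rfl⟩
  rw [isOpen_iff_forall_mem_open]
  rintro z ⟨hzW, hzV⟩
  obtain ⟨U, hU, hzU, hUo, hUc⟩ := H z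
  obtain ⟨e, heW, hze⟩ := hU.exists_basicOpen_le ⟨(σ z).pt, hzW⟩ hzU
  haveI := hU.isLocalization_basicOpen e
  have hle : X.basicOpen e ≤ U := X.basicOpen_le e
  obtain ⟨⟨b, ⟨_, n, rfl⟩⟩, hb⟩ := IsLocalization.surj (Submonoid.powers e)
    (X.presheaf.map (homOfLE heW).op g)
  have key : ∀ (x' : Pts X) (hx'e : x'.pt ∈ X.basicOpen e),
      x'.ev W (heW hx'e) g * (x'.ev U (hle hx'e) e) ^ n = x'.ev U (hle hx'e) b := by
    intro x' hx'e
    have h1 := congrArg (evRingHom x' (X.basicOpen e) hx'e) hb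
    simp only [map_mul, map_pow] at h1
    have h2 : ∀ c : Γ(X, U), evRingHom x' (X.basicOpen e) hx'e
        (algebraMap Γ(X, U) Γ(X, X.basicOpen e) c) = x'.ev U (hle hx'e) c :=
      fun c => ev_res x' hle hx'e c
    have h3 : evRingHom x' (X.basicOpen e) hx'e (X.presheaf.map (homOfLE heW).op g) =
        x'.ev W (heW hx'e) g := ev_res x' heW hx'e g
    rw [h2, h2, h3] at h1
    exact h1
  let O : Set (ℂ × ℂ) := {p | p.1 ≠ 0} ∩ (fun p : ℂ × ℂ => p.2 / p.1 ^ n) ⁻¹' V
  have hO : IsOpen O := by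
    refine ContinuousOn.isOpen_inter_preimage ?_ (isOpen_ne_fun continuous_fst continuous_const) hV
    exact continuousOn_snd.div (continuousOn_fst.pow n) fun p hp => pow_ne_zero n hp
  refine ⟨(σ ⁻¹' (Pts.pt ⁻¹' (U : Set X))) ∩
    (fun z' => (evD U e (σ z'), evD U b (σ z'))) ⁻¹' O, ?_,
    ContinuousOn.isOpen_inter_preimage ((hUc e).prodMk (hUc b)) hUo hO, ?_⟩
  · rintro z' ⟨hz'U, hz'e0, hz'V⟩
    have hz'U' : (σ z').pt ∈ U := hz'U
    have he0 : (σ z').ev U hz'U' e ≠ 0 := by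
      have : evD U e (σ z') ≠ 0 := hz'e0
      rwa [evD_of_mem e hz'U'] at this
    have hz'e : (σ z').pt ∈ X.basicOpen e := (mem_basicOpen_iff_ev_ne_zero _ U hz'U' e).mpr he0
    refine ⟨heW hz'e, ?_⟩
    have hk := key (σ z') hz'e
    have : (σ z').ev W (heW hz'e) g = (σ z').ev U hz'U' b / ((σ z').ev U hz'U' e) ^ n := by
      rw [eq_div_iff (pow_ne_zero n he0), hk]
    rw [this]
    have hV' : evD U b (σ z') / (evD U e (σ z')) ^ n ∈ V := hz'V
    rwa [evD_of_mem e hz'U', evD_of_mem b hz'U'] at hV'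
  · have he0 : (σ z).ev U hzU e ≠ 0 := (mem_basicOpen_iff_ev_ne_zero _ U hzU e).mp hze
    refine ⟨hzU, ?_, ?_⟩
    · change evD U e (σ z) ≠ 0
      rwa [evD_of_mem e hzU]
    · change evD U b (σ z) / (evD U e (σ z)) ^ n ∈ V
      rw [evD_of_mem e hzU, evD_of_mem b hzU]
      have hk := key (σ z) hze
      have : (σ z).ev W hzW g = (σ z).ev U hzU b / ((σ z).ev U hzU e) ^ n := by
        rw [eq_div_iff (pow_ne_zero n he0), ← hk]
      rw [← this]
      exact hzV

end Groth.Agent.Lib.Helper19.AnB
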