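import Groth.Agent.Lib.Helper19.An.EpsLimits
import Groth.Agent.Lib.Helper19.LanFlat
import Mathlib.CategoryTheory.Sites.Pullback
import Mathlib.Algebra.Category.Grp.FilteredColimits

set_option autoImplicit false
set_option linter.style.haveILetI false
open CategoryTheory AlgebraicGeometry Topology TopologicalSpace Limits
open An

namespace Groth.Agent.Lib.Helper19.AnB

variable (X : Scheme.{0}) [X.Over SC] [LocallyOfFiniteType (X ↘ SC)] [Fact EtaleLH]

attribute [local instance] reflectsLimitsOfShape_of_reflectsIsomorphisms in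
theorem lan_eps_preservesFiniteLimits :
    PreservesFiniteLimits
      ((eps X).op.lan : ((X.Etale)ᵒᵖ ⥤ AddCommGrpCat.{1}) ⥤ ((Cl (Pts X))ᵒᵖ ⥤ AddCommGrpCat.{1})) :=
  LanFlat.lan_preservesFiniteLimits_of_flat AddCommGrpCat.{1} (eps X) (fun K J _ _ => by
    haveI : IsFiltered (CostructuredArrow (eps X).op K) :=
      IsFiltered.of_equivalence (structuredArrowOpEquivalence (eps X) (Opposite.unop K))
    haveI : PreservesFilteredColimitsOfSize.{0, 1} (forget AddCommGrpCat.{1}) :=
      preservesFilteredColimitsOfSize_shrink.{1, 1, 0, 1} _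
    exact filtered_colim_preservesFiniteLimits)

theorem preservesFiniteLimits_epsPull [EpsCont X] : PreservesFiniteLimits (epsPull X) := by
  haveI := lan_eps_preservesFiniteLimits X
  exact Functor.sheafPullbackConstruction.preservesFiniteLimits (eps X) AddCommGrpCat.{1}
    X.smallEtaleTopology (Cl.topology (Pts X))

end Groth.Agent.Lib.Helper19.AnB
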