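import Groth.Agent.Lib.Helper19.An.Affine
import Groth.Agent.Lib.Helper19.CP.Generators
import Mathlib.AlgebraicGeometry.AffineSpace
import Mathlib.Topology.Compactness.LocallyCompact

set_option autoImplicit false
set_option linter.style.haveILetI false
open CategoryTheory AlgebraicGeometry Topology TopologicalSpace
open An

namespace Groth.Agent.Lib.Helper19.AnB

attribute [local instance] CP.top

variable {X : Scheme.{0}} [X.Over SC]

lemma isClosedEmbedding_evAlgHom [IsAffine X] [LocallyOfFiniteType (X ↘ SC)] :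
    IsClosedEmbedding (evAlgHom : Pts X → (Γ(X, ⊤) →ₐ[ℂ] ℂ)) :=
  ⟨⟨isInducing_evAlgHom, evAlgHom_injective⟩, by
    rw [evAlgHom_surjective.range_eq]; exact isClosed_univ⟩

theorem isClosedEmbedding_of_generators [IsAffine X] [LocallyOfFiniteType (X ↘ SC)] (n : ℕ)
    (s : Fin n → Γ(X, ⊤))
    (hs : Function.Surjective (MvPolynomial.eval₂Hom (An.strHom X) s)) :
    IsClosedEmbedding (fun (x : Pts X) (i : Fin n) => x.evTop (s i)) := by
  have hs' : Function.Surjective
      (MvPolynomial.aeval s : MvPolynomial (Fin n) ℂ →ₐ[ℂ] Γ(X, ⊤)) := hs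
  exact (CP.isClosedEmbedding_of_generators s hs').comp isClosedEmbedding_evAlgHom

theorem affineSpace_isHomeomorph (n : ℕ) :
    IsHomeomorph (fun (x : Pts (𝔸(Fin n; SC))) (i : Fin n) =>
      x.evTop (AffineSpace.coord SC i)) := by
  have hbij : Function.Bijective
      (MvPolynomial.eval₂Hom (strHom (𝔸(Fin n; SC))) (AffineSpace.coord SC)) := by
    have h := AffineSpace.SpecIso_hom_appTop (n := Fin n) (CommRingCat.of ℂ)
    have h2 : CommRingCat.ofHom
        (MvPolynomial.eval₂Hom (strHom (𝔸(Fin n; SC))) (AffineSpace.coord SC)) =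
        (Scheme.ΓSpecIso _).inv ≫ (AffineSpace.SpecIso (Fin n) (CommRingCat.of ℂ)).hom.appTop := by
      rw [h, Iso.inv_hom_id_assoc]
      rfl
    have hiso : IsIso (CommRingCat.ofHom
        (MvPolynomial.eval₂Hom (strHom (𝔸(Fin n; SC))) (AffineSpace.coord SC))) := by
      rw [h2]
      haveI : IsIso (AffineSpace.SpecIso (Fin n) (CommRingCat.of ℂ)).hom.appTop := by
        change IsIso ((AffineSpace.SpecIso (Fin n) (CommRingCat.of ℂ)).hom.app ⊤)
        infer_instance
      infer_instance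
    exact ConcreteCategory.bijective_of_isIso (CommRingCat.ofHom
        (MvPolynomial.eval₂Hom (strHom (𝔸(Fin n; SC))) (AffineSpace.coord SC)))
  have hce := isClosedEmbedding_of_generators n (AffineSpace.coord SC) hbij.2
  have hs' : Function.Surjective (MvPolynomial.aeval (AffineSpace.coord SC) :
      MvPolynomial (Fin n) ℂ →ₐ[ℂ] Γ(𝔸(Fin n; SC), ⊤)) := hbij.2
  have hsurj : Function.Surjective (fun (x : Pts (𝔸(Fin n; SC))) (i : Fin n) =>
      x.evTop (AffineSpace.coord SC i)) := by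
    intro v
    have hv : v ∈ Set.range (fun (ψ : Γ(𝔸(Fin n; SC), ⊤) →ₐ[ℂ] ℂ) (i : Fin n) =>
        ψ (AffineSpace.coord SC i)) := by
      rw [CP.range_eq_of_generators _ hs']
      intro P hP
      have hP0 : P = 0 := hbij.1 (by rw [map_zero]; exact hP)
      rw [hP0, map_zero]
    obtain ⟨ψ, rfl⟩ := hv
    obtain ⟨x, rfl⟩ := evAlgHom_surjective ψ
    exact ⟨x, rfl⟩
  exact isHomeomorph_iff_isEmbedding_surjective.mpr ⟨hce.isEmbedding, hsurj⟩

theorem locallyCompactSpace_pts [LocallyOfFiniteType (X ↘ SC)] : LocallyCompactSpace (Pts X) := by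
  refine ⟨fun x N hN => ?_⟩
  obtain ⟨_, ⟨(U : X.Opens), hU : IsAffineOpen U, rfl⟩, hxU, -⟩ :=
    X.isBasis_affineOpens.exists_subset_of_mem_open (Set.mem_univ x.pt) isOpen_univ
  letI : (U : Scheme.{0}).Over SC := ⟨U.ι ≫ X ↘ SC⟩
  haveI : U.ι.IsOver SC := ⟨rfl⟩
  haveI : IsAffine (U : Scheme.{0}) := hU
  haveI : LocallyOfFiniteType ((U : Scheme.{0}) ↘ SC) := by
    change LocallyOfFiniteType (U.ι ≫ X ↘ SC)
    infer_instance
  have hxr : x ∈ Set.range (Pts.map U.ι) := by
    rw [range_map_of_isOpenImmersion]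
    change x.pt ∈ Set.range U.ι
    rw [Scheme.Opens.range_ι]
    exact hxU
  obtain ⟨x', rfl⟩ := hxr
  haveI := finiteType_Γ (X := (U : Scheme.{0}))
  obtain ⟨n, π, hπ⟩ := Algebra.FiniteType.iff_quotient_mvPolynomial''.mp
    (inferInstance : Algebra.FiniteType ℂ Γ((U : Scheme.{0}), ⊤))
  have hπ' : π = MvPolynomial.aeval (fun i => π (MvPolynomial.X i)) := MvPolynomial.aeval_unique π
  have hce := CP.isClosedEmbedding_of_generators (fun i => π (MvPolynomial.X i))
    (by rw [← hπ']; exact hπ)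
  haveI : LocallyCompactSpace (Pts (U : Scheme.{0})) :=
    (hce.comp isClosedEmbedding_evAlgHom).locallyCompactSpace
  have hopen := isOpenEmbedding_map U.ι
  obtain ⟨K, hK, hKN, hKc⟩ :=
    local_compact_nhds (hopen.continuous.continuousAt.preimage_mem_nhds hN)
  exact ⟨Pts.map U.ι '' K, hopen.isOpenMap.image_mem_nhds hK, Set.image_subset_iff.mpr hKN,
    hKc.image hopen.continuous⟩

end Groth.Agent.Lib.Helper19.AnB
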