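import Groth.Agent.Lib.Helper19.An.Separated
import Groth.Agent.Lib.Helper19.An.Generators
import Groth.Agent.Lib.Helper19.CP.Etale
import Mathlib.AlgebraicGeometry.Morphisms.Etale
import Mathlib.AlgebraicGeometry.Morphisms.FormallyUnramified
import Mathlib.Topology.IsLocalHomeomorph

set_option autoImplicit false
set_option linter.style.haveILetI false
open CategoryTheory AlgebraicGeometry Topology TopologicalSpace Limits
open An

namespace Groth.Agent.Lib.Helper19.AnB

attribute [local instance] CP.top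

variable {X Y : Scheme.{0}} [X.Over SC] [Y.Over SC]

lemma appTop_strHom (g : X ⟶ Y) [g.IsOver SC] (c : ℂ) : g.appTop (strHom Y c) = strHom X c := by
  unfold strHom
  have h : (X ↘ SC).appTop = (Y ↘ SC).appTop ≫ g.appTop := by
    rw [← Scheme.Hom.comp_appTop, comp_over]
  rw [h]
  rfl

/-- The map on global sections as a `ℂ`-algebra homomorphism. -/
noncomputable def appTopAlgHom (g : X ⟶ Y) [g.IsOver SC] : Γ(Y, ⊤) →ₐ[ℂ] Γ(X, ⊤) :=
  { g.appTop.hom with commutes' := fun c => appTop_strHom g c }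

@[simp] lemma appTopAlgHom_apply (g : X ⟶ Y) [g.IsOver SC] (a : Γ(Y, ⊤)) :
    appTopAlgHom g a = g.appTop a := rfl

lemma evAlgHom_map (g : X ⟶ Y) [g.IsOver SC] (x : Pts X) :
    evAlgHom (Pts.map g x) = (evAlgHom x).comp (appTopAlgHom g) := by
  ext a
  change (Pts.map g x).evTop a = x.evTop (g.appTop a)
  have h := ev_appLE g x ⊤ ⊤ le_top (Opens.mem_top _) a
  have h2 : g.appLE ⊤ ⊤ le_top = g.appTop := Scheme.Hom.appLE_eq_app g
  rw [h2] at h
  exact h.symm

/-- Affine case: an étale morphism induces an open map on complex points. -/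
theorem isOpenMap_map_of_etale_of_isAffine [IsAffine X] [IsAffine Y]
    [LocallyOfFiniteType (X ↘ SC)] [LocallyOfFiniteType (Y ↘ SC)]
    (g : X ⟶ Y) [g.IsOver SC] [Etale g] : IsOpenMap (Pts.map g) := by
  letI : Algebra Γ(Y, ⊤) Γ(X, ⊤) := g.appTop.hom.toAlgebra
  haveI : IsScalarTower ℂ Γ(Y, ⊤) Γ(X, ⊤) := IsScalarTower.of_algebraMap_eq' (by
    ext c
    exact (appTop_strHom g c).symm)
  haveI : Algebra.Etale Γ(Y, ⊤) Γ(X, ⊤) :=
    (HasRingHomProperty.iff_of_isAffine (P := @Etale)).mp ‹Etale g›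
  have hopen := CP.isOpenMap_res_of_etale (R := Γ(Y, ⊤)) (A := Γ(X, ⊤))
  have hcomm : ∀ x : Pts X, evAlgHom (Pts.map g x) = CP.res (evAlgHom x) := by
    intro x
    rw [evAlgHom_map]
    rfl
  intro W hW
  have hWX : IsOpen (evAlgHom '' W) :=
    (isInducing_evAlgHom.isOpenMap (by
      rw [evAlgHom_surjective.range_eq]; exact isOpen_univ)) W hW
  have h2 := hopen _ hWX
  have h3 : Pts.map g '' W = evAlgHom ⁻¹' (CP.res '' (evAlgHom '' W)) := by
    ext y
    constructor
    · rintro ⟨x, hx, rfl⟩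
      exact ⟨evAlgHom x, ⟨x, hx, rfl⟩, (hcomm x).symm⟩
    · rintro ⟨_, ⟨x, hx, rfl⟩, hxy⟩
      refine ⟨x, hx, ?_⟩
      apply evAlgHom_injective
      rw [hcomm, hxy]
  rw [h3]
  exact h2.preimage continuous_evAlgHom

/-- An étale morphism induces an open map on complex points. -/
theorem isOpenMap_map_of_etale [LocallyOfFiniteType (Y ↘ SC)]
    (g : X ⟶ Y) [g.IsOver SC] [Etale g] : IsOpenMap (Pts.map g) := by
  haveI : LocallyOfFiniteType (X ↘ SC) := by
    rw [← comp_over g]; infer_instance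
  rw [isOpenMap_iff_nhds_le]
  intro x N hN
  rw [Filter.mem_map] at hN
  obtain ⟨_, ⟨(V : Y.Opens), hV : IsAffineOpen V, rfl⟩, hxV, -⟩ :=
    Y.isBasis_affineOpens.exists_subset_of_mem_open (Set.mem_univ (g x.pt)) isOpen_univ
  obtain ⟨_, ⟨(U : X.Opens), hU : IsAffineOpen U, rfl⟩, hxU, hUV⟩ :=
    X.isBasis_affineOpens.exists_subset_of_mem_open
      (show x.pt ∈ ((g ⁻¹ᵁ V : X.Opens) : Set X) from hxV) (g ⁻¹ᵁ V).2
  have e : U ≤ g ⁻¹ᵁ V := hUV
  letI : (U : Scheme.{0}).Over SC := ⟨U.ι ≫ X ↘ SC⟩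
  haveI : U.ι.IsOver SC := ⟨rfl⟩
  haveI : IsAffine (U : Scheme.{0}) := hU
  haveI : LocallyOfFiniteType ((U : Scheme.{0}) ↘ SC) := by
    change LocallyOfFiniteType (U.ι ≫ X ↘ SC)
    infer_instance
  letI : (V : Scheme.{0}).Over SC := ⟨V.ι ≫ Y ↘ SC⟩
  haveI : V.ι.IsOver SC := ⟨rfl⟩
  haveI : IsAffine (V : Scheme.{0}) := hV
  haveI : LocallyOfFiniteType ((V : Scheme.{0}) ↘ SC) := by
    change LocallyOfFiniteType (V.ι ≫ Y ↘ SC)
    infer_instance
  let g' : (U : Scheme.{0}) ⟶ (V : Scheme.{0}) := g.resLE V U e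
  have hg' : g' ≫ V.ι = U.ι ≫ g := Scheme.Hom.resLE_comp_ι g e
  haveI : g'.IsOver SC := ⟨by
    change g' ≫ V.ι ≫ Y ↘ SC = U.ι ≫ X ↘ SC
    rw [← Category.assoc, hg', Category.assoc, comp_over]⟩
  have hxr : x ∈ Set.range (Pts.map U.ι) := by
    rw [range_map_of_isOpenImmersion]
    change x.pt ∈ Set.range U.ι
    rw [Scheme.Opens.range_ι]
    exact hxU
  obtain ⟨x', rfl⟩ := hxr
  have hopenU := isOpenEmbedding_map U.ι
  have hopenV := isOpenEmbedding_map V.ι
  have hopen' : IsOpenMap (Pts.map g') := isOpenMap_map_of_etale_of_isAffine g'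
  have h1 : Pts.map U.ι ⁻¹' (Pts.map g ⁻¹' N) ∈ 𝓝 x' :=
    hopenU.continuous.continuousAt.preimage_mem_nhds hN
  have h2 := hopenV.isOpenMap.image_mem_nhds (hopen'.image_mem_nhds h1)
  have hsq : ∀ z : Pts (U : Scheme.{0}), Pts.map V.ι (Pts.map g' z) = Pts.map g (Pts.map U.ι z) := by
    intro z
    apply Subtype.ext
    change (z.1 ≫ g') ≫ V.ι = (z.1 ≫ U.ι) ≫ g
    rw [Category.assoc, hg', Category.assoc]
  rw [hsq] at h2
  refine Filter.mem_of_superset h2 ?_
  rintro _ ⟨_, ⟨z, hz, rfl⟩, rfl⟩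
  rw [hsq]
  exact hz

/-- The preimage of the diagonal of `Pts X ×_{Pts Y} Pts X` under the comparison homeomorphism is
the range of the diagonal morphism on points. -/
lemma preimage_pullbackDiagonal (f : X ⟶ Y) [f.IsOver SC]
    [(pullback.diagonal f).IsOver SC] :
    pullbackComparison f f ⁻¹' (Pts.map f).pullbackDiagonal =
      Set.range (Pts.map (pullback.diagonal f)) := by
  ext z
  constructor
  · intro hz
    have hz' : Pts.map (pullback.fst f f) z = Pts.map (pullback.snd f f) z := hz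
    have h1 : z.1 ≫ pullback.fst f f = z.1 ≫ pullback.snd f f := congrArg Subtype.val hz'
    refine ⟨Pts.map (pullback.fst f f) z, Subtype.ext ?_⟩
    change (z.1 ≫ pullback.fst f f) ≫ pullback.diagonal f = z.1
    apply pullback.hom_ext
    · rw [Category.assoc, pullback.diagonal_fst, Category.comp_id]
    · rw [Category.assoc, pullback.diagonal_snd, Category.comp_id, h1]
  · rintro ⟨x, rfl⟩
    change Pts.map (pullback.fst f f) (Pts.map (pullback.diagonal f) x) =
      Pts.map (pullback.snd f f) (Pts.map (pullback.diagonal f) x)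
    apply Subtype.ext
    change (x.1 ≫ pullback.diagonal f) ≫ pullback.fst f f =
      (x.1 ≫ pullback.diagonal f) ≫ pullback.snd f f
    rw [Category.assoc, Category.assoc, pullback.diagonal_fst, pullback.diagonal_snd]

/-- A morphism whose diagonal is an open immersion (e.g. an unramified morphism) is locally
injective on complex points. -/
theorem isLocallyInjective_map [LocallyOfFiniteType (X ↘ SC)] [LocallyOfFiniteType (Y ↘ SC)]
    (f : X ⟶ Y) [f.IsOver SC] [IsOpenImmersion (pullback.diagonal f)] :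
    IsLocallyInjective (Pts.map f) := by
  rw [isLocallyInjective_iff_isOpen_diagonal]
  haveI := locallyOfFiniteType_of_isOver f
  haveI hΔover : (pullback.diagonal f).IsOver SC :=
    ⟨by
      change pullback.diagonal f ≫ pullback.fst f f ≫ X ↘ SC = X ↘ SC
      rw [pullback.diagonal_fst_assoc]⟩
  haveI : LocallyOfFiniteType ((pullback f f) ↘ SC) := by
    change LocallyOfFiniteType (pullback.fst f f ≫ X ↘ SC)
    infer_instance
  have hτ := isHomeomorph_pullbackComparison f f
  have hpre := preimage_pullbackDiagonal f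
  have hopen : IsOpen (Set.range (Pts.map (pullback.diagonal f))) :=
    (isOpenEmbedding_map (pullback.diagonal f)).isOpen_range
  rw [← hpre] at hopen
  have := hτ.isOpenMap _ hopen
  rwa [Set.image_preimage_eq _ hτ.surjective] at this

/-- An étale morphism induces a local homeomorphism on complex points. -/
theorem isLocalHomeomorph_map_of_etale [LocallyOfFiniteType (Y ↘ SC)]
    (g : X ⟶ Y) [g.IsOver SC] [Etale g] : IsLocalHomeomorph (Pts.map g) := by
  haveI : LocallyOfFiniteType (X ↘ SC) := by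
    rw [← comp_over g]; infer_instance
  haveI := locallyOfFiniteType_of_isOver g
  have hopen := isOpenMap_map_of_etale g
  have hinj := isLocallyInjective_map g
  rw [isLocalHomeomorph_iff_isOpenEmbedding_restrict]
  intro x
  obtain ⟨U, hU, hxU, hUinj⟩ := hinj x
  refine ⟨U, hU.mem_nhds hxU, ?_⟩
  refine IsOpenEmbedding.of_continuous_injective_isOpenMap
    ((Pts.continuous_map g).comp continuous_subtype_val) ?_ (hopen.domRestrict hU)
  intro a b hab
  exact Subtype.ext (hUinj a.2 b.2 hab)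

end Groth.Agent.Lib.Helper19.AnB
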