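import Groth.Agent.Lib.Helper19.An.Cont
import Mathlib.AlgebraicGeometry.Morphisms.Flat

set_option autoImplicit false
set_option linter.style.haveILetI false
open CategoryTheory AlgebraicGeometry Topology TopologicalSpace Limits
open An

namespace Groth.Agent.Lib.Helper19.AnB

section evD

variable {X : Scheme.{0}} [X.Over SC]

lemma evD_appLE {Y : Scheme.{0}} [Y.Over SC] (g : X ⟶ Y) [g.IsOver SC] (U : Y.Opens)
    (V : X.Opens) (e : V ≤ g ⁻¹ᵁ U) (a : Γ(Y, U)) (x : Pts X) (hV : x.pt ∈ V) :
    evD V (g.appLE U V e a) x = evD U a (Pts.map g x) := by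
  have hU : (Pts.map g x).pt ∈ U := by rw [Pts.pt_map]; exact e hV
  rw [evD_of_mem _ hV, evD_of_mem _ hU, ev_appLE]

lemma evD_add (U : X.Opens) (a b : Γ(X, U)) (x : Pts X) :
    evD U (a + b) x = evD U a x + evD U b x := by
  by_cases h : x.pt ∈ U
  · rw [evD_of_mem _ h, evD_of_mem _ h, evD_of_mem _ h, ← evRingHom_apply, map_add]; rfl
  · simp [evD, h]

lemma evD_mul (U : X.Opens) (a b : Γ(X, U)) (x : Pts X) :
    evD U (a * b) x = evD U a x * evD U b x := by
  by_cases h : x.pt ∈ U
  · rw [evD_of_mem _ h, evD_of_mem _ h, evD_of_mem _ h, ← evRingHom_apply, map_mul]; rfl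
  · simp [evD, h]

lemma evD_neg (U : X.Opens) (a : Γ(X, U)) (x : Pts X) :
    evD U (-a) x = - evD U a x := by
  by_cases h : x.pt ∈ U
  · rw [evD_of_mem _ h, evD_of_mem _ h, ← evRingHom_apply, map_neg]; rfl
  · simp [evD, h]

lemma evD_zero (U : X.Opens) (x : Pts X) : evD U (0 : Γ(X, U)) x = 0 := by
  by_cases h : x.pt ∈ U
  · rw [evD_of_mem _ h, ← evRingHom_apply, map_zero]
  · simp [evD, h]

lemma evD_one (U : X.Opens) (x : Pts X) (h : x.pt ∈ U) : evD U (1 : Γ(X, U)) x = 1 := by
  rw [evD_of_mem _ h, ← evRingHom_apply, map_one]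

end evD

section pushout

/-- In a pushout square of commutative rings the vertex is generated by the two legs. -/
lemma closure_eq_top_of_isPushout {R A B C : CommRingCat.{0}} {f : R ⟶ A} {g : R ⟶ B}
    {inl : A ⟶ C} {inr : B ⟶ C} (H : IsPushout f g inl inr) :
    Subring.closure (Set.range inl.hom ∪ Set.range inr.hom) = ⊤ := by
  set G : Subring C := Subring.closure (Set.range inl.hom ∪ Set.range inr.hom) with hG
  let ι : CommRingCat.of G ⟶ C := CommRingCat.ofHom G.subtype
  let jA : A ⟶ CommRingCat.of G := CommRingCat.ofHom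
    (inl.hom.codRestrict G fun a => Subring.subset_closure (Or.inl ⟨a, rfl⟩))
  let jB : B ⟶ CommRingCat.of G := CommRingCat.ofHom
    (inr.hom.codRestrict G fun b => Subring.subset_closure (Or.inr ⟨b, rfl⟩))
  have hA : jA ≫ ι = inl := by ext a; rfl
  have hB : jB ≫ ι = inr := by ext b; rfl
  have hcomm : f ≫ jA = g ≫ jB := by
    ext r
    have := congrArg (fun φ => φ.hom r) H.w
    exact this
  let u : C ⟶ CommRingCat.of G := H.desc jA jB hcomm
  have hu : u ≫ ι = 𝟙 C := by
    apply H.hom_ext
    · rw [← Category.assoc, H.inl_desc, hA, Category.comp_id]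
    · rw [← Category.assoc, H.inr_desc, hB, Category.comp_id]
  rw [eq_top_iff]
  intro c _
  have hc : c = ι.hom (u.hom c) := (congrArg (fun φ => φ.hom c) hu).symm
  rw [hc]
  exact (u.hom c).2

end pushout

variable {X Y S : Scheme.{0}} [X.Over SC] [Y.Over SC] [S.Over SC]
  (f : X ⟶ S) (g : Y ⟶ S) [f.IsOver SC] [g.IsOver SC]

/-- The comparison map from the points of a fibre product to the fibre product of the points. -/
noncomputable def pullbackComparison (z : Pts (pullback f g)) :
    {q : Pts X × Pts Y // Pts.map f q.1 = Pts.map g q.2} :=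
  ⟨(Pts.map (pullback.fst f g) z, Pts.map (pullback.snd f g) z),
    Pts.map_pullback_condition f g z⟩

lemma pullbackComparison_bijective : Function.Bijective (pullbackComparison f g) := by
  constructor
  · intro z z' h
    have h1 : z.1 ≫ pullback.fst f g = z'.1 ≫ pullback.fst f g :=
      congrArg (fun q => (q.1.1 : Pts X).1) h
    have h2 : z.1 ≫ pullback.snd f g = z'.1 ≫ pullback.snd f g :=
      congrArg (fun q => (q.1.2 : Pts Y).1) h
    exact Subtype.ext (pullback.hom_ext h1 h2)
  · rintro ⟨⟨a, b⟩, h⟩
    have h' : a.1 ≫ f = b.1 ≫ g := congrArg Subtype.val h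
    refine ⟨⟨pullback.lift a.1 b.1 h', ?_⟩, ?_⟩
    · change pullback.lift a.1 b.1 h' ≫ pullback.fst f g ≫ X ↘ SC = 𝟙 SC
      rw [pullback.lift_fst_assoc]
      exact a.2
    · apply Subtype.ext
      apply Prod.ext
      · exact Subtype.ext (pullback.lift_fst _ _ _)
      · exact Subtype.ext (pullback.lift_snd _ _ _)

lemma continuous_pullbackComparison : Continuous (pullbackComparison f g) :=
  Continuous.subtype_mk
    ((Pts.continuous_map (pullback.fst f g)).prodMk (Pts.continuous_map (pullback.snd f g))) _

theorem isHomeomorph_pullbackComparison : IsHomeomorph (pullbackComparison f g) := by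
  let E := {q : Pts X × Pts Y // Pts.map f q.1 = Pts.map g q.2}
  let eqv : Pts (pullback f g) ≃ E := Equiv.ofBijective _ (pullbackComparison_bijective f g)
  let σ : E → Pts (pullback f g) := eqv.symm
  have hτσ : ∀ q : E, pullbackComparison f g (σ q) = q := fun q => eqv.apply_symm_apply q
  have hfst : ∀ q : E, Pts.map (pullback.fst f g) (σ q) = q.1.1 := fun q =>
    congrArg (fun q => q.1.1) (hτσ q)
  have hsnd : ∀ q : E, Pts.map (pullback.snd f g) (σ q) = q.1.2 := fun q =>
    congrArg (fun q => q.1.2) (hτσ q)
  have hσ : Continuous σ := by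
    apply continuous_of_affine_local
    intro q
    set p := (σ q).pt with hp
    have hcond : f (pullback.fst f g p) = g (pullback.snd f g p) := by
      rw [← Scheme.Hom.comp_apply, ← Scheme.Hom.comp_apply, pullback.condition]
    obtain ⟨_, ⟨(US : S.Opens), hUS : IsAffineOpen US, rfl⟩, hpS, -⟩ :=
      S.isBasis_affineOpens.exists_subset_of_mem_open
        (Set.mem_univ (f (pullback.fst f g p))) isOpen_univ
    obtain ⟨_, ⟨(UX : X.Opens), hUX : IsAffineOpen UX, rfl⟩, hpX, hUSX⟩ :=
      X.isBasis_affineOpens.exists_subset_of_mem_open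
        (show pullback.fst f g p ∈ f ⁻¹ᵁ US from hpS) (f ⁻¹ᵁ US).isOpen
    obtain ⟨_, ⟨(UT : Y.Opens), hUT : IsAffineOpen UT, rfl⟩, hpT, hUST⟩ :=
      Y.isBasis_affineOpens.exists_subset_of_mem_open
        (show pullback.snd f g p ∈ g ⁻¹ᵁ US by
          change g (pullback.snd f g p) ∈ US
          rw [← hcond]
          exact hpS) (g ⁻¹ᵁ US).isOpen
    have hUSX' : UX ≤ f ⁻¹ᵁ US := hUSX
    have hUST' : UT ≤ g ⁻¹ᵁ US := hUST
    have H : IsPullback (pullback.fst f g) (pullback.snd f g) f g := IsPullback.of_hasPullback f g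
    let UP : (pullback f g).Opens := pullback.fst f g ⁻¹ᵁ UX ⊓ pullback.snd f g ⁻¹ᵁ UT
    have hUP : IsAffineOpen UP := by
      have : IsAffine (US : Scheme.{0}) := hUS
      have : IsAffine (UT : Scheme.{0}) := hUT
      have : IsAffine (UX : Scheme.{0}) := hUX
      exact .of_isIso (Scheme.Hom.isPullback_resLE H hUST' hUSX' rfl).isoPullback.hom
    haveI := isIso_pushoutSection_of_isAffineOpen H hUST' hUSX' (UY := UP) rfl hUS hUT hUX
    have hpush := (isIso_pushoutSection_iff H hUST' hUSX' (UY := UP) rfl).mp inferInstance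
    have hgen := closure_eq_top_of_isPushout hpush
    have hset : σ ⁻¹' (Pts.pt ⁻¹' (UP : Set (pullback f g : Scheme.{0}))) =
        {q : E | q.1.1.pt ∈ UX ∧ q.1.2.pt ∈ UT} := by
      ext q'
      simp only [Set.mem_preimage, Set.mem_ofPred_eq]
      rw [← hfst q', ← hsnd q', Pts.pt_map, Pts.pt_map]
      rfl
    refine ⟨UP, hUP, ⟨hpX, hpT⟩, ?_, ?_⟩
    · rw [hset]
      exact ((UX.2.preimage Pts.continuous_pt).preimage
          (continuous_fst.comp continuous_subtype_val)).inter
        ((UT.2.preimage Pts.continuous_pt).preimage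
          (continuous_snd.comp continuous_subtype_val))
    · intro a
      have ha : a ∈ Subring.closure
          (Set.range (Scheme.Hom.appLE (pullback.fst f g) UX UP (by simp [UP])).hom ∪
            Set.range (Scheme.Hom.appLE (pullback.snd f g) UT UP (by simp [UP])).hom) := by
        rw [hgen]; trivial
      induction ha using Subring.closure_induction with
      | mem a ha =>
        rcases ha with ⟨a₀, rfl⟩ | ⟨b₀, rfl⟩
        · have hc : ContinuousOn (fun q' : E => evD UX a₀ q'.1.1)
              (σ ⁻¹' (Pts.pt ⁻¹' (UP : Set (pullback f g : Scheme.{0})))) := by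
            refine (continuousOn_evD UX a₀).comp
              (continuous_fst.comp continuous_subtype_val).continuousOn ?_
            rw [hset]
            exact fun q' hq' => hq'.1
          refine hc.congr fun q' hq' => ?_
          change evD UP _ (σ q') = evD UX a₀ q'.1.1
          rw [evD_appLE (pullback.fst f g) UX UP _ a₀ (σ q') hq', hfst]
        · have hc : ContinuousOn (fun q' : E => evD UT b₀ q'.1.2)
              (σ ⁻¹' (Pts.pt ⁻¹' (UP : Set (pullback f g : Scheme.{0})))) := by
            refine (continuousOn_evD UT b₀).comp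
              (continuous_snd.comp continuous_subtype_val).continuousOn ?_
            rw [hset]
            exact fun q' hq' => hq'.2
          refine hc.congr fun q' hq' => ?_
          change evD UP _ (σ q') = evD UT b₀ q'.1.2
          rw [evD_appLE (pullback.snd f g) UT UP _ b₀ (σ q') hq', hsnd]
      | zero =>
        refine (continuousOn_const (c := (0 : ℂ))).congr fun q' _ => ?_
        exact evD_zero UP (σ q')
      | one =>
        refine (continuousOn_const (c := (1 : ℂ))).congr fun q' hq' => ?_
        exact evD_one UP (σ q') hq'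
      | add a b _ _ iha ihb =>
        refine (iha.add ihb).congr fun q' _ => ?_
        exact evD_add UP a b (σ q')
      | neg a _ iha =>
        refine iha.neg.congr fun q' _ => ?_
        exact evD_neg UP a (σ q')
      | mul a b _ _ iha ihb =>
        refine (iha.mul ihb).congr fun q' _ => ?_
        exact evD_mul UP a b (σ q')
  have hhomeo : IsHomeomorph (eqv : Pts (pullback f g) → E) :=
    (Homeomorph.mk eqv (continuous_pullbackComparison f g) hσ).isHomeomorph
  exact hhomeo

end Groth.Agent.Lib.Helper19.AnB
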