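import Groth.Prelude.Def_AnEps
import Groth.Agent.Lib.Helper19.An.Pullback
import Groth.Agent.Lib.Helper19.An.Etale
import Groth.Agent.Lib.Helper19.An.Surj
import Mathlib.CategoryTheory.Functor.Flat
import Mathlib.CategoryTheory.Sites.CoverPreserving
import Mathlib.CategoryTheory.Limits.Constructions.LimitsOfProductsAndEqualizers

set_option autoImplicit false
set_option linter.style.haveILetI false
open CategoryTheory AlgebraicGeometry Topology TopologicalSpace Limits
open An

namespace Groth.Agent.Lib.Helper19.AnB

section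

variable (X : Scheme.{0}) [X.Over SC] [LocallyOfFiniteType (X ↘ SC)] [Fact EtaleLH]

lemma eps_map_toFun {U V : X.Etale} (g : U ⟶ V) (u : Pts U.left) :
    ((eps X).map g).toFun u = Pts.map g.left u := rfl

lemma eps_obj_p (U : X.Etale) (u : Pts U.left) :
    ((eps X).obj U).p u = Pts.map (U.left ↘ X) u := rfl

noncomputable instance preservesTerminal_eps : PreservesLimit (Functor.empty.{0} X.Etale) (eps X) :=
  preservesLimit_of_preserves_limit_cone (EtCore.topIsTerminal X)
    ((isLimitMapConeEmptyConeEquiv (eps X) (EtCoh.top X)).symm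
      ((Cl.selfIsTerminal _).ofIso (epsTopIso X).symm))

end

section pullback

variable {X : Scheme.{0}}
variable {U V S : X.Etale} (f : U ⟶ S) (g : V ⟶ S)

/-- The explicit fibre product in the small étale site. -/
noncomputable def pb : X.Etale :=
  Scheme.Etale.mk (pullback.fst f.left g.left ≫ U.hom)

noncomputable def pbFst : pb f g ⟶ U :=
  MorphismProperty.Over.homMk (pullback.fst f.left g.left) rfl

noncomputable def pbSnd : pb f g ⟶ V :=
  MorphismProperty.Over.homMk (pullback.snd f.left g.left) (by
    change pullback.snd f.left g.left ≫ V.hom = pullback.fst f.left g.left ≫ U.hom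
    have hf : f.left ≫ S.hom = U.hom := MorphismProperty.Over.w f
    have hg : g.left ≫ S.hom = V.hom := MorphismProperty.Over.w g
    rw [← hf, ← hg, pullback.condition_assoc])

lemma pb_condition : pbFst f g ≫ f = pbSnd f g ≫ g :=
  MorphismProperty.Over.Hom.ext pullback.condition

/-- The explicit fibre product is a fibre product. -/
noncomputable def pbIsLimit :
    IsLimit (PullbackCone.mk (pbFst f g) (pbSnd f g) (pb_condition f g)) :=
  PullbackCone.IsLimit.mk _
    (fun s => MorphismProperty.Over.homMk
      (pullback.lift s.fst.left s.snd.left (congrArg (fun k => k.left) s.condition)) (by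
        change pullback.lift _ _ _ ≫ pullback.fst f.left g.left ≫ U.hom = s.pt.hom
        rw [pullback.lift_fst_assoc]
        exact MorphismProperty.Over.w s.fst))
    (fun s => MorphismProperty.Over.Hom.ext (pullback.lift_fst _ _ _))
    (fun s => MorphismProperty.Over.Hom.ext (pullback.lift_snd _ _ _))
    (fun s m h₁ h₂ => MorphismProperty.Over.Hom.ext (pullback.hom_ext
      ((congrArg (fun k => k.left) h₁).trans (pullback.lift_fst _ _ _).symm)
      ((congrArg (fun k => k.left) h₂).trans (pullback.lift_snd _ _ _).symm)))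

variable [X.Over SC]

lemma pb_over_eq :
    @CategoryTheory.over _ _ (pb f g).left SC (etaleOverLeft X (pb f g)) =
      @CategoryTheory.over _ _ (pullback f.left g.left) SC (pullbackOver f.left g.left) :=
  Category.assoc _ _ _

lemma pts_pb_ext (z z' : Pts (pb f g).left)
    (h₁ : Pts.map (pbFst f g).left z = Pts.map (pbFst f g).left z')
    (h₂ : Pts.map (pbSnd f g).left z = Pts.map (pbSnd f g).left z') : z = z' :=
  Subtype.ext (pullback.hom_ext (congrArg Subtype.val h₁) (congrArg Subtype.val h₂))

/-- The point of the explicit fibre product determined by a compatible pair of points. -/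
noncomputable def pbPt (q : {q : Pts U.left × Pts V.left // Pts.map f.left q.1 = Pts.map g.left q.2}) :
    Pts (pb f g).left :=
  Pts.cast (pullbackOver f.left g.left) (etaleOverLeft X (pb f g)) (pb_over_eq f g).symm
    ((isHomeomorph_pullbackComparison f.left g.left).homeomorph.symm q)

lemma continuous_pbPt : Continuous (pbPt f g) :=
  (Pts.cast _ _ _).continuous.comp (Homeomorph.continuous _)

lemma map_fst_pbPt (q) : Pts.map (pbFst f g).left (pbPt f g q) = q.1.1 := by
  have h := (isHomeomorph_pullbackComparison f.left g.left).homeomorph.apply_symm_apply q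
  have h1 := congrArg (fun q => q.1.1) h
  apply Subtype.ext
  exact congrArg Subtype.val h1

lemma map_snd_pbPt (q) : Pts.map (pbSnd f g).left (pbPt f g q) = q.1.2 := by
  have h := (isHomeomorph_pullbackComparison f.left g.left).homeomorph.apply_symm_apply q
  have h1 := congrArg (fun q => q.1.2) h
  apply Subtype.ext
  exact congrArg Subtype.val h1

end pullback

section epsPullback

variable {X : Scheme.{0}} [X.Over SC] [LocallyOfFiniteType (X ↘ SC)] [Fact EtaleLH]
variable {U V S : X.Etale} (f : U ⟶ S) (g : V ⟶ S)

lemma eps_pb_condition :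
    (eps X).map (pbFst f g) ≫ (eps X).map f = (eps X).map (pbSnd f g) ≫ (eps X).map g := by
  rw [← Functor.map_comp, ← Functor.map_comp, pb_condition]

lemma p_pbPt (q) : ((eps X).obj (pb f g)).p (pbPt f g q) = ((eps X).obj U).p q.1.1 := by
  have h1 := congrArg Subtype.val (map_fst_pbPt f g q)
  apply Subtype.ext
  change (pbPt f g q).1 ≫ (pullback.fst f.left g.left ≫ U.hom) = q.1.1.1 ≫ U.hom
  rw [← Category.assoc]
  exact congrArg (· ≫ U.hom) h1

/-- The lift of a cone over the image cospan. -/
noncomputable def epsPbLift (s : PullbackCone ((eps X).map f) ((eps X).map g)) :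
    s.pt ⟶ (eps X).obj (pb f g) where
  toFun x := pbPt f g ⟨(s.fst.toFun x, s.snd.toFun x), congrArg (fun k => k.toFun x) s.condition⟩
  continuous := (continuous_pbPt f g).comp
    (Continuous.subtype_mk (s.fst.continuous.prodMk s.snd.continuous)
      (fun x => congrArg (fun k => k.toFun x) s.condition))
  over x := (p_pbPt f g ⟨(s.fst.toFun x, s.snd.toFun x),
    congrArg (fun k => k.toFun x) s.condition⟩).trans (s.fst.over x)

/-- `eps` sends the explicit fibre product to a fibre product. -/
noncomputable def epsPbIsLimit :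
    IsLimit (PullbackCone.mk ((eps X).map (pbFst f g)) ((eps X).map (pbSnd f g))
      (eps_pb_condition f g)) :=
  PullbackCone.IsLimit.mk _ (epsPbLift f g)
    (fun s => Cl.hom_ext (funext fun x => map_fst_pbPt f g ⟨(s.fst.toFun x, s.snd.toFun x),
        congrArg (fun k => k.toFun x) s.condition⟩))
    (fun s => Cl.hom_ext (funext fun x => map_snd_pbPt f g ⟨(s.fst.toFun x, s.snd.toFun x),
        congrArg (fun k => k.toFun x) s.condition⟩))
    (fun s m h₁ h₂ => Cl.hom_ext (funext fun x => pts_pb_ext f g _ _
      ((congrArg (fun k => k.toFun x) h₁).trans (map_fst_pbPt f g ⟨(s.fst.toFun x, s.snd.toFun x),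
        congrArg (fun k => k.toFun x) s.condition⟩).symm)
      ((congrArg (fun k => k.toFun x) h₂).trans (map_snd_pbPt f g ⟨(s.fst.toFun x, s.snd.toFun x),
        congrArg (fun k => k.toFun x) s.condition⟩).symm)))

noncomputable instance preservesLimit_cospan_eps : PreservesLimit (cospan f g) (eps X) :=
  preservesLimit_of_preserves_limit_cone (pbIsLimit f g)
    ((isLimitMapConePullbackConeEquiv (eps X) (pb_condition f g)).symm (epsPbIsLimit f g))

end epsPullback

section flat

variable (X : Scheme.{0}) [X.Over SC] [LocallyOfFiniteType (X ↘ SC)] [Fact EtaleLH]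

noncomputable instance preservesPullbacks_eps : PreservesLimitsOfShape WalkingCospan (eps X) :=
  ⟨fun {K} => preservesLimit_of_iso_diagram (eps X) (diagramIsoCospan K).symm⟩

noncomputable instance preservesTerminalShape_eps :
    PreservesLimitsOfShape (Discrete PEmpty.{1}) (eps X) :=
  preservesLimitsOfShape_pempty_of_preservesTerminal (eps X)

noncomputable instance preservesFiniteLimits_eps : PreservesFiniteLimits (eps X) :=
  preservesFiniteLimits_of_preservesTerminal_and_pullbacks (eps X)

instance representablyFlat_eps : RepresentablyFlat (eps X) := flat_of_preservesFiniteLimits _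

end flat

section cover

variable (X : Scheme.{0}) [X.Over SC] [LocallyOfFiniteType (X ↘ SC)] [Fact EtaleLH]

lemma exists_isOpen_isOpenEmbedding_restrict {A B : Type*} [TopologicalSpace A]
    [TopologicalSpace B] {φ : A → B} (hφ : IsLocalHomeomorph φ) (z : A) :
    ∃ N : Set A, IsOpen N ∧ z ∈ N ∧ IsOpenEmbedding (N.restrict φ) := by
  obtain ⟨N', hN', hemb⟩ := isLocalHomeomorph_iff_isOpenEmbedding_restrict.mp hφ z
  refine ⟨interior N', isOpen_interior, mem_interior_iff_mem_nhds.mpr hN', ?_⟩
  have hincl : IsOpenEmbedding (Set.inclusion (interior_subset : interior N' ⊆ N')) := by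
    refine ⟨IsEmbedding.inclusion _, ?_⟩
    have : Set.range (Set.inclusion (interior_subset : interior N' ⊆ N')) =
        Subtype.val ⁻¹' (interior N') := by
      ext ⟨w, hw⟩
      simp [Set.range_inclusion]
    rw [this]
    exact isOpen_interior.preimage continuous_subtype_val
  exact hemb.comp hincl

lemma exists_openEmbedding_of_mem_range {U Z : X.Etale} (g : Z ⟶ U) (a : Pts U.left)
    (ha : a.pt ∈ Set.range g.left) :
    ∃ (N : Set (Pts Z.left)) (hN : IsOpen N),
      IsOpenEmbedding (Cl.restrictOpenι ((eps X).obj Z) N hN ≫ (eps X).map g).toFun ∧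
      a ∈ Set.range (Cl.restrictOpenι ((eps X).obj Z) N hN ≫ (eps X).map g).toFun := by
  haveI : LocallyOfFiniteType (U.left ↘ SC) := by
    change LocallyOfFiniteType ((U.left ↘ X) ≫ X ↘ SC)
    infer_instance
  haveI : LocallyOfFiniteType (Z.left ↘ SC) := by
    change LocallyOfFiniteType ((Z.left ↘ X) ≫ X ↘ SC)
    infer_instance
  obtain ⟨z, hz⟩ := exists_map_eq_of_mem_range g.left a ha
  have hlh : IsLocalHomeomorph (Pts.map g.left) := (Fact.out : EtaleLH) Z.left U.left g.left
  obtain ⟨N, hN, hzN, hemb⟩ := exists_isOpen_isOpenEmbedding_restrict hlh z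
  exact ⟨N, hN, hemb, ⟨⟨z, hzN⟩, hz⟩⟩

theorem coverPreserving_eps :
    CoverPreserving X.smallEtaleTopology (Cl.topology (Pts X)) (eps X) := by
  constructor
  intro U S hS
  obtain ⟨𝒰, h𝒰, h, hle⟩ := (Scheme.mem_smallGrothendieckTopology U S).mp hS
  intro a
  obtain ⟨i, y, hy⟩ := 𝒰.exists_eq a.pt
  have hgS : S ((𝒰.f i).asOverProp X (hX := h i) (hY := U.prop)) := hle _ _ ⟨i⟩
  obtain ⟨N, hN, hemb, hmem⟩ := exists_openEmbedding_of_mem_range X
    ((𝒰.f i).asOverProp X (hX := h i) (hY := U.prop)) a ⟨y, hy⟩
  exact ⟨_, _, ⟨_, _, _, hgS, rfl⟩, hemb, hmem⟩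

instance isContinuous_eps :
    (eps X).IsContinuous X.smallEtaleTopology (Cl.topology (Pts X)) :=
  (Functor.isContinuous_iff_coverPreserving (F := eps X)).mpr (coverPreserving_eps X)

end cover

end Groth.Agent.Lib.Helper19.AnB
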