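import Groth.Agent.Lib.Helper19.An.ClosedImm
import Groth.Agent.Lib.Helper19.CP.Dense

set_option autoImplicit false
set_option linter.style.haveILetI false
open CategoryTheory AlgebraicGeometry Topology TopologicalSpace
open An

namespace Groth.Agent.Lib.Helper19.AnB

variable {X : Scheme.{0}} [X.Over SC]

/-- Evaluation at a point, as a ring homomorphism. -/
noncomputable def evRingHom (x : Pts X) (U : X.Opens) (h : x.pt ∈ U) : Γ(X, U) →+* ℂ :=
  (Scheme.ΓSpecIso (CommRingCat.of ℂ)).hom.hom.comp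
    (x.1.appLE U ⊤ (Pts.top_le_preimage x h)).hom

@[simp] lemma evRingHom_apply (x : Pts X) (U : X.Opens) (h : x.pt ∈ U) (f : Γ(X, U)) :
    evRingHom x U h f = x.ev U h f := rfl

lemma ΓSpecIso_hom_eq_zero_iff (s : Γ(SC, ⊤)) :
    (Scheme.ΓSpecIso (CommRingCat.of ℂ)).hom s = 0 ↔ s = 0 := by
  constructor
  · intro h
    have : (Scheme.ΓSpecIso (CommRingCat.of ℂ)).inv ((Scheme.ΓSpecIso (CommRingCat.of ℂ)).hom s) = 0 := by
      rw [h, map_zero]
    rwa [← CommRingCat.comp_apply, Iso.hom_inv_id, CommRingCat.id_apply] at this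
  · rintro rfl
    exact map_zero _

lemma mem_basicOpen_iff_ev_ne_zero (x : Pts X) (U : X.Opens) (h : x.pt ∈ U) (f : Γ(X, U)) :
    x.pt ∈ X.basicOpen f ↔ x.ev U h f ≠ 0 := by
  unfold Pts.ev
  rw [Ne, ΓSpecIso_hom_eq_zero_iff, ← basicOpen_eq_bot_iff, Scheme.basicOpen_appLE]
  constructor
  · intro hx hbot
    have : cpt ∈ (⊤ : SC.Opens) ⊓ x.1 ⁻¹ᵁ X.basicOpen f := ⟨trivial, hx⟩
    rw [hbot] at this
    exact this
  · intro hne
    by_contra hx
    apply hne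
    ext p
    simp only [Opens.coe_inf, Opens.coe_top, Set.univ_inter, Opens.coe_bot,
      Set.mem_empty_iff_false, iff_false]
    intro hp
    rw [eq_cpt p] at hp
    exact hx hp

lemma appLE_top_eq_id {S : Scheme.{0}} {f : S ⟶ S} (hf : f = 𝟙 S)
    (e : (⊤ : S.Opens) ≤ f ⁻¹ᵁ ⊤) : f.appLE ⊤ ⊤ e = 𝟙 _ := by
  subst hf
  simp [Scheme.Hom.appLE]

lemma evTop_strHom (x : Pts X) (c : ℂ) : x.evTop (strHom X c) = c := by
  have h1 := Scheme.Hom.comp_appLE x.1 (X ↘ SC) ⊤ ⊤ le_top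
  rw [appLE_top_eq_id x.2] at h1
  have h2 : ∀ s : Γ(SC, ⊤),
      x.1.appLE ⊤ ⊤ (Pts.top_le_preimage x (Opens.mem_top _)) ((X ↘ SC).appTop s) = s := by
    intro s
    exact (congrArg (fun φ => φ.hom s) h1).symm
  change (Scheme.ΓSpecIso (CommRingCat.of ℂ)).hom
    (x.1.appLE ⊤ ⊤ _ ((X ↘ SC).appTop ((Scheme.ΓSpecIso (CommRingCat.of ℂ)).inv c))) = c
  rw [h2, ← CommRingCat.comp_apply, Iso.inv_hom_id, CommRingCat.id_apply]

/-- Evaluation of global sections at a point, as a `ℂ`-algebra homomorphism. -/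
noncomputable def evAlgHom (x : Pts X) : Γ(X, ⊤) →ₐ[ℂ] ℂ :=
  { evRingHom x ⊤ (Opens.mem_top _) with
    commutes' := fun c => evTop_strHom x c }

@[simp] lemma evAlgHom_apply (x : Pts X) (f : Γ(X, ⊤)) : evAlgHom x f = x.evTop f := rfl

end Groth.Agent.Lib.Helper19.AnB
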