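import Groth.Agent.Lib.Helper19.An.Etale
import Groth.Agent.Lib.Helper19.CP.Finite
import Mathlib.AlgebraicGeometry.Morphisms.Finite
import Mathlib.Topology.Covering.Basic

set_option autoImplicit false
set_option linter.style.haveILetI false
open CategoryTheory AlgebraicGeometry Topology TopologicalSpace Limits
open An

namespace Groth.Agent.Lib.Helper19.AnB

attribute [local instance] CP.top

section topology

variable {E B E' B' : Type*} [TopologicalSpace E] [TopologicalSpace B] [TopologicalSpace E']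
  [TopologicalSpace B']

/-- Transfer of the covering property along open embeddings forming a cartesian square. -/
lemma isCoveringMapOn_of_isOpenEmbedding {f : E → B} {f' : E' → B'} {jE : E' → E} {jB : B' → B}
    (hE : IsOpenEmbedding jE) (hB : IsOpenEmbedding jB) (hsq : ∀ e, f (jE e) = jB (f' e))
    (hrange : Set.range jE = f ⁻¹' Set.range jB) (hf' : IsCoveringMap f') :
    IsCoveringMapOn f (Set.range jB) := by
  refine IsCoveringMapOn.of_isCoveringMap_restrictPreimage _ hB.isOpen_range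
    (hrange ▸ hE.isOpen_range) ?_
  let eB : B' ≃ₜ Set.range jB := hB.isEmbedding.toHomeomorph
  let eE : E' ≃ₜ (f ⁻¹' Set.range jB) :=
    (hE.isEmbedding.toHomeomorph).trans (Homeomorph.setCongr hrange)
  have h1 : IsCoveringMap ((eB ∘ f') ∘ eE.symm) :=
    (hf'.homeomorph_comp eB).comp_homeomorph eE.symm
  convert h1 using 1
  funext e
  obtain ⟨e', rfl⟩ := eE.surjective e
  apply Subtype.ext
  simp only [Function.comp_apply, Homeomorph.symm_apply_apply]
  change f (jE e') = jB (f' e')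
  exact hsq e'

omit [TopologicalSpace E] [TopologicalSpace B] [TopologicalSpace E'] [TopologicalSpace B'] in
lemma preimage_singleton_eq_image {f : E → B} {f' : E' → B'} {jE : E' → E} {jB : B' → B}
    (hB : Function.Injective jB) (hsq : ∀ e, f (jE e) = jB (f' e))
    (hrange : Set.range jE = f ⁻¹' Set.range jB) (b' : B') :
    f ⁻¹' {jB b'} = jE '' (f' ⁻¹' {b'}) := by
  ext e
  constructor
  · intro he
    have he' : e ∈ f ⁻¹' Set.range jB := ⟨b', he.symm⟩
    rw [← hrange] at he'
    obtain ⟨e', rfl⟩ := he'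
    refine ⟨e', ?_, rfl⟩
    have : jB (f' e') = jB b' := by rw [← hsq]; exact he
    exact hB this
  · rintro ⟨e', he', rfl⟩
    change f (jE e') = jB b'
    rw [hsq, he']

end topology

variable {X Y : Scheme.{0}} [X.Over SC] [Y.Over SC]

lemma image_map_eq_preimage [IsAffine Y] (g : X ⟶ Y) [g.IsOver SC] (W : Set (Pts X)) :
    Pts.map g '' W = evAlgHom ⁻¹'
      ((fun ψ : Γ(X, ⊤) →ₐ[ℂ] ℂ => ψ.comp (appTopAlgHom g)) '' (evAlgHom '' W)) := by
  ext y
  constructor
  · rintro ⟨x, hx, rfl⟩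
    exact ⟨evAlgHom x, ⟨x, hx, rfl⟩, (evAlgHom_map g x).symm⟩
  · rintro ⟨_, ⟨x, hx, rfl⟩, hxy⟩
    refine ⟨x, hx, ?_⟩
    apply evAlgHom_injective
    rw [evAlgHom_map]
    exact hxy

lemma t2Space_of_isAffine [IsAffine X] [LocallyOfFiniteType (X ↘ SC)] : T2Space (Pts X) := by
  haveI := CP.t2Space (A := Γ(X, ⊤))
  exact (isClosedEmbedding_evAlgHom (X := X)).isEmbedding.t2Space

/-- Finite morphisms to an affine target are closed with finite fibres on complex points. -/
theorem isClosedMap_and_finite_of_isAffine [IsAffine Y] [LocallyOfFiniteType (X ↘ SC)]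
    [LocallyOfFiniteType (Y ↘ SC)] (f : X ⟶ Y) [f.IsOver SC] [IsFinite f] :
    IsClosedMap (Pts.map f) ∧ ∀ y : Pts Y, (Pts.map f ⁻¹' {y}).Finite := by
  haveI : IsAffine X := isAffine_of_isAffineHom f
  letI : Algebra Γ(Y, ⊤) Γ(X, ⊤) := f.appTop.hom.toAlgebra
  haveI : IsScalarTower ℂ Γ(Y, ⊤) Γ(X, ⊤) := IsScalarTower.of_algebraMap_eq' (by
    ext c
    exact (appTop_strHom f c).symm)
  haveI : Module.Finite Γ(Y, ⊤) Γ(X, ⊤) := IsFinite.finite_app f ⊤ (isAffineOpen_top Y)
  haveI : Algebra.FiniteType ℂ Γ(Y, ⊤) := finiteType_Γ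
  have hres : ∀ ψ : Γ(X, ⊤) →ₐ[ℂ] ℂ, CP.res ψ = ψ.comp (appTopAlgHom f) := fun ψ => rfl
  constructor
  · intro W hW
    rw [image_map_eq_preimage]
    have h1 : IsClosed (evAlgHom '' W) := isClosedEmbedding_evAlgHom.isClosedMap W hW
    have h2 := CP.isClosedMap_res_of_integral (R := Γ(Y, ⊤)) (A := Γ(X, ⊤)) _ h1
    exact h2.preimage continuous_evAlgHom
  · intro y
    have hfin := CP.finite_fibre' (R := Γ(Y, ⊤)) (A := Γ(X, ⊤)) (evAlgHom y)
    refine Set.Finite.of_injOn (f := evAlgHom) ?_ evAlgHom_injective.injOn hfin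
    intro x hx
    change CP.res (evAlgHom x) = evAlgHom y
    rw [hres, ← evAlgHom_map, (hx : Pts.map f x = y)]

/-- Affine target: a finite étale morphism is a covering map on complex points. -/
theorem isCoveringMap_of_isAffine [IsAffine Y] [LocallyOfFiniteType (X ↘ SC)]
    [LocallyOfFiniteType (Y ↘ SC)] (f : X ⟶ Y) [f.IsOver SC] [IsFinite f] [Etale f] :
    IsCoveringMap (Pts.map f) := by
  haveI : IsAffine X := isAffine_of_isAffineHom f
  haveI : T2Space (Pts X) := t2Space_of_isAffine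
  obtain ⟨hcl, hfin⟩ := isClosedMap_and_finite_of_isAffine f
  have hlh := isLocalHomeomorph_map_of_etale f
  rw [isCoveringMap_iff_isCoveringMapOn_univ]
  refine hcl.isCoveringMapOn_of_isLocalHomeomorphOn (fun y _ => hfin y) ?_
  rw [Set.preimage_univ]
  exact isLocalHomeomorph_iff_isLocalHomeomorphOn_univ.mp hlh

/-- A finite étale morphism induces a covering map with finite fibres on complex points. -/
theorem isCoveringMap_map_of_finite_etale [LocallyOfFiniteType (X ↘ SC)]
    [LocallyOfFiniteType (Y ↘ SC)] (f : X ⟶ Y) [f.IsOver SC] [IsFinite f] [Etale f] :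
    IsCoveringMap (Pts.map f) ∧ ∀ y : Pts Y, (Pts.map f ⁻¹' {y}).Finite := by
  have key : ∀ y : Pts Y, IsEvenlyCovered (Pts.map f) y (Pts.map f ⁻¹' {y}) ∧
      (Pts.map f ⁻¹' {y}).Finite := by
    intro y
    obtain ⟨_, ⟨(V : Y.Opens), hV : IsAffineOpen V, rfl⟩, hyV, -⟩ :=
      Y.isBasis_affineOpens.exists_subset_of_mem_open (Set.mem_univ y.pt) isOpen_univ
    let U : X.Opens := f ⁻¹ᵁ V
    letI : (U : Scheme.{0}).Over SC := ⟨U.ι ≫ X ↘ SC⟩
    haveI : U.ι.IsOver SC := ⟨rfl⟩
    haveI : LocallyOfFiniteType ((U : Scheme.{0}) ↘ SC) := by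
      change LocallyOfFiniteType (U.ι ≫ X ↘ SC)
      infer_instance
    letI : (V : Scheme.{0}).Over SC := ⟨V.ι ≫ Y ↘ SC⟩
    haveI : V.ι.IsOver SC := ⟨rfl⟩
    haveI : IsAffine (V : Scheme.{0}) := hV
    haveI : LocallyOfFiniteType ((V : Scheme.{0}) ↘ SC) := by
      change LocallyOfFiniteType (V.ι ≫ Y ↘ SC)
      infer_instance
    let f' : (U : Scheme.{0}) ⟶ (V : Scheme.{0}) := f ∣_ V
    have hf' : f' ≫ V.ι = U.ι ≫ f := morphismRestrict_ι f V
    haveI : f'.IsOver SC := ⟨by
      change f' ≫ V.ι ≫ Y ↘ SC = U.ι ≫ X ↘ SC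
      rw [← Category.assoc, hf', Category.assoc, comp_over]⟩
    haveI : IsFinite f' := IsZariskiLocalAtTarget.restrict ‹IsFinite f› V
    haveI : Etale f' := inferInstanceAs (Etale (f ∣_ V))
    have hcov' := isCoveringMap_of_isAffine f'
    have hfin' := (isClosedMap_and_finite_of_isAffine f').2
    have hopenU := isOpenEmbedding_map U.ι
    have hopenV := isOpenEmbedding_map V.ι
    have hsq : ∀ z : Pts (U : Scheme.{0}),
        Pts.map f (Pts.map U.ι z) = Pts.map V.ι (Pts.map f' z) := by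
      intro z
      apply Subtype.ext
      change (z.1 ≫ U.ι) ≫ f = (z.1 ≫ f') ≫ V.ι
      rw [Category.assoc, Category.assoc, hf']
    have hrange : Set.range (Pts.map U.ι) = Pts.map f ⁻¹' Set.range (Pts.map V.ι) := by
      rw [range_map_of_isOpenImmersion, range_map_of_isOpenImmersion, Scheme.Opens.range_ι,
        Scheme.Opens.range_ι]
      ext x
      simp only [Set.mem_preimage, Pts.pt_map]
      rfl
    have hyr : y ∈ Set.range (Pts.map V.ι) := by
      rw [range_map_of_isOpenImmersion]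
      change y.pt ∈ Set.range V.ι
      rw [Scheme.Opens.range_ι]
      exact hyV
    have hcovOn := isCoveringMapOn_of_isOpenEmbedding hopenU hopenV hsq hrange hcov'
    refine ⟨hcovOn y hyr, ?_⟩
    obtain ⟨y', rfl⟩ := hyr
    rw [preimage_singleton_eq_image hopenV.injective hsq hrange y']
    exact (hfin' y').image _
  exact ⟨fun y => (key y).1, fun y => (key y).2⟩

end Groth.Agent.Lib.Helper19.AnB
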