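import Groth.Agent.Lib.Helper19.An.Surj
import Mathlib.AlgebraicGeometry.Morphisms.Separated

set_option autoImplicit false
set_option linter.style.haveILetI false
open CategoryTheory AlgebraicGeometry Topology TopologicalSpace
open An

namespace Groth.Agent.Lib.Helper19.AnB

lemma isLocallyConstructible_of_isOpen {X : Scheme.{0}} [IsLocallyNoetherian X] {U : Set X}
    (hU : IsOpen U) : IsLocallyConstructible U := by
  intro p
  obtain ⟨_, ⟨(W : X.Opens), hW : IsAffineOpen W, rfl⟩, hpW, -⟩ :=
    X.isBasis_affineOpens.exists_subset_of_mem_open (Set.mem_univ p) isOpen_univ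
  haveI : IsNoetherianRing Γ(X, W) := IsLocallyNoetherian.component_noetherian ⟨W, hW⟩
  haveI : NoetherianSpace (W : Set X) := noetherianSpace_of_isAffineOpen W hW
  refine ⟨W, W.2.mem_nhds hpW, W.2, ?_⟩
  refine IsRetrocompact.isConstructible (hU.preimage continuous_subtype_val) ?_
  intro K _ _
  exact NoetherianSpace.isCompact _

lemma isLocallyConstructible_of_isClosed {X : Scheme.{0}} [IsLocallyNoetherian X] {Z : Set X}
    (hZ : IsClosed Z) : IsLocallyConstructible Z := by
  have := isLocallyConstructible_compl (isLocallyConstructible_of_isOpen hZ.isOpen_compl)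
  rwa [compl_compl] at this

lemma isLocallyConstructible_of_isLocallyClosed {X : Scheme.{0}} [IsLocallyNoetherian X]
    {Z : Set X} (hZ : IsLocallyClosed Z) : IsLocallyConstructible Z := by
  obtain ⟨U, C, hU, hC, rfl⟩ := hZ
  exact (isLocallyConstructible_of_isOpen hU).inter (isLocallyConstructible_of_isClosed hC)

variable {X Y : Scheme.{0}} [X.Over SC] [Y.Over SC]

theorem discreteTopology_iff [LocallyOfFiniteType (X ↘ SC)] :
    DiscreteTopology X ↔ DiscreteTopology (Pts X) := by
  haveI := jacobsonSpace (X := X)
  haveI := isLocallyNoetherian (X := X)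
  constructor
  · intro h
    rw [discreteTopology_iff_isOpen_singleton]
    intro x
    have h1 : IsOpen (Pts.pt ⁻¹' {x.pt} : Set (Pts X)) :=
      (isOpen_discrete _).preimage Pts.continuous_pt
    convert h1 using 1
    ext y
    simp only [Set.mem_singleton_iff, Set.mem_preimage]
    exact ⟨fun h => by rw [h], fun h => pt_injective h⟩
  · intro h
    -- each closed point is open
    have hco : ∀ c ∈ closedPoints X, IsOpen ({c} : Set X) := by
      intro c hc
      obtain ⟨x, rfl⟩ := exists_pt_eq c hc
      rw [isOpen_iff_isOpen_preimage_pt _ (isLocallyConstructible_of_isClosed hc)]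
      exact isOpen_discrete _
    rw [discreteTopology_iff_isOpen_singleton]
    intro p
    obtain ⟨c, ⟨hcp, hc⟩⟩ : (closure {p} ∩ closedPoints X).Nonempty :=
      nonempty_inter_closedPoints ⟨p, subset_closure rfl⟩ isClosed_closure.isLocallyClosed
    have : ({c} ∩ {p} : Set X).Nonempty :=
      mem_closure_iff.mp hcp {c} (hco c hc) rfl
    obtain ⟨q, hqc, hqp⟩ := this
    have : p = c := by rw [← (hqp : q = p), (hqc : q = c)]
    rw [this]
    exact hco c hc

theorem injective_iff [LocallyOfFiniteType (X ↘ SC)] [LocallyOfFiniteType (Y ↘ SC)]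
    (f : X ⟶ Y) [f.IsOver SC] :
    Function.Injective f.base ↔ Function.Injective (Pts.map f) := by
  constructor
  · intro h x x' hxx'
    apply pt_injective
    apply h
    rw [← Pts.pt_map, ← Pts.pt_map, hxx']
  · intro h x₁ x₂ h12
    by_contra hne
    haveI := locallyOfFiniteType_of_isOver f
    -- the fibre square
    letI : (Limits.pullback f f).Over SC := ⟨Limits.pullback.fst f f ≫ X ↘ SC⟩
    haveI : LocallyOfFiniteType ((Limits.pullback f f) ↘ SC) := by
      change LocallyOfFiniteType (Limits.pullback.fst f f ≫ X ↘ SC)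
      infer_instance
    haveI := isLocallyNoetherian (X := Limits.pullback f f)
    obtain ⟨w, hw1, hw2⟩ := Scheme.Pullback.exists_preimage_pullback (f := f) (g := f) x₁ x₂ h12
    let Δ := Limits.pullback.diagonal f
    have hΔ : IsLocallyConstructible (Set.range Δ)ᶜ :=
      isLocallyConstructible_compl (isLocallyConstructible_of_isLocallyClosed
        Δ.isLocallyClosed_range)
    have hwΔ : w ∈ (Set.range Δ)ᶜ := by
      rintro ⟨x, rfl⟩
      apply hne
      rw [← hw1, ← hw2, ← Scheme.Hom.comp_apply, ← Scheme.Hom.comp_apply,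
        Limits.pullback.diagonal_fst, Limits.pullback.diagonal_snd]
    obtain ⟨z, hz, -⟩ := exists_pt_mem_of_nonempty hΔ isClosed_univ ⟨w, hwΔ, trivial⟩
    -- the two projections of z
    have hz1 : (z.1 ≫ Limits.pullback.fst f f) ≫ X ↘ SC = 𝟙 SC := by
      rw [Category.assoc]; exact z.2
    have hz2 : (z.1 ≫ Limits.pullback.snd f f) ≫ X ↘ SC = 𝟙 SC := by
      rw [← comp_over f, Category.assoc, ← Category.assoc (Limits.pullback.snd f f),
        ← Limits.pullback.condition, Category.assoc, comp_over f]
      exact z.2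
    let a : Pts X := ⟨z.1 ≫ Limits.pullback.fst f f, hz1⟩
    let b : Pts X := ⟨z.1 ≫ Limits.pullback.snd f f, hz2⟩
    have hab : Pts.map f a = Pts.map f b := Subtype.ext (by
      change (z.1 ≫ Limits.pullback.fst f f) ≫ f = (z.1 ≫ Limits.pullback.snd f f) ≫ f
      rw [Category.assoc, Category.assoc, Limits.pullback.condition])
    have hab' : a.1 = b.1 := congrArg Subtype.val (h hab)
    apply hz
    refine ⟨a.pt, ?_⟩
    change Δ (a.1 cpt) = z.1 cpt
    have hΔz : a.1 ≫ Δ = z.1 := by
      apply Limits.pullback.hom_ext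
      · rw [Category.assoc, Limits.pullback.diagonal_fst, Category.comp_id]
      · rw [Category.assoc, Limits.pullback.diagonal_snd, Category.comp_id, hab']
    rw [← Scheme.Hom.comp_apply, hΔz]

end Groth.Agent.Lib.Helper19.AnB
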