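import Groth.Agent.Lib.Helper19.An.Pullback
import Groth.Agent.Lib.Helper19.An.Inj
import Mathlib.Topology.SeparatedMap

set_option autoImplicit false
set_option linter.style.haveILetI false
open CategoryTheory AlgebraicGeometry Topology TopologicalSpace Limits
open An

namespace Groth.Agent.Lib.Helper19.AnB

variable {X Y : Scheme.{0}} [X.Over SC] [Y.Over SC]

theorem isSeparated_iff [LocallyOfFiniteType (X ↘ SC)] [LocallyOfFiniteType (Y ↘ SC)]
    (f : X ⟶ Y) [f.IsOver SC] : IsSeparated f ↔ IsSeparatedMap (Pts.map f) := by
  rw [isSeparatedMap_iff_isClosed_diagonal]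
  haveI := locallyOfFiniteType_of_isOver f
  haveI hΔover : (pullback.diagonal f).IsOver SC :=
    ⟨by
      change pullback.diagonal f ≫ pullback.fst f f ≫ X ↘ SC = X ↘ SC
      rw [pullback.diagonal_fst_assoc]⟩
  haveI : LocallyOfFiniteType ((pullback f f) ↘ SC) := by
    change LocallyOfFiniteType (pullback.fst f f ≫ X ↘ SC)
    infer_instance
  have hτ := isHomeomorph_pullbackComparison f f
  have hpre : pullbackComparison f f ⁻¹' (Pts.map f).pullbackDiagonal =
      Set.range (Pts.map (pullback.diagonal f)) := by
    ext z
    constructor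
    · intro hz
      have hz' : Pts.map (pullback.fst f f) z = Pts.map (pullback.snd f f) z := hz
      have h1 : z.1 ≫ pullback.fst f f = z.1 ≫ pullback.snd f f := congrArg Subtype.val hz'
      refine ⟨Pts.map (pullback.fst f f) z, Subtype.ext ?_⟩
      change (z.1 ≫ pullback.fst f f) ≫ pullback.diagonal f = z.1
      apply pullback.hom_ext
      · rw [Category.assoc, pullback.diagonal_fst, Category.comp_id]
      · rw [Category.assoc, pullback.diagonal_snd, Category.comp_id, h1]
    · rintro ⟨x, rfl⟩
      change Pts.map (pullback.fst f f) (Pts.map (pullback.diagonal f) x) =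
        Pts.map (pullback.snd f f) (Pts.map (pullback.diagonal f) x)
      apply Subtype.ext
      change (x.1 ≫ pullback.diagonal f) ≫ pullback.fst f f =
        (x.1 ≫ pullback.diagonal f) ≫ pullback.snd f f
      rw [Category.assoc, Category.assoc, pullback.diagonal_fst, pullback.diagonal_snd]
  have hclosed_iff : IsClosed (Pts.map f).pullbackDiagonal ↔
      IsClosed (Set.range (Pts.map (pullback.diagonal f))) := by
    rw [← hpre]
    constructor
    · intro h
      exact h.preimage hτ.continuous
    · intro h
      have := hτ.isClosedMap _ h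
      rwa [Set.image_preimage_eq _ hτ.surjective] at this
  rw [hclosed_iff]
  constructor
  · intro hsep
    haveI : IsClosedImmersion (pullback.diagonal f) := hsep.isClosedImmersion_diagonal
    exact (isClosedEmbedding_map (pullback.diagonal f)).isClosed_range
  · intro hcl
    haveI := isLocallyNoetherian (X := pullback f f)
    rw [range_map_eq (pullback.diagonal f)] at hcl
    have hT : IsLocallyConstructible (Set.range (pullback.diagonal f))ᶜ :=
      isLocallyConstructible_compl (isLocallyConstructible_of_isLocallyClosed
        (pullback.diagonal f).isLocallyClosed_range)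
    have hopen : IsOpen (Set.range (pullback.diagonal f))ᶜ :=
      (isOpen_iff_isOpen_preimage_pt _ hT).mpr (by
        rw [Set.preimage_compl]
        exact hcl.isOpen_compl)
    have hclosed : IsClosed (Set.range (pullback.diagonal f)) := isOpen_compl_iff.mp hopen
    exact ⟨IsClosedImmersion.of_isPreimmersion _ hclosed⟩

theorem t2Space_iff [LocallyOfFiniteType (X ↘ SC)] :
    IsSeparated (X ↘ SC) ↔ T2Space (Pts X) := by
  haveI : LocallyOfFiniteType (SC ↘ SC) := inferInstanceAs (LocallyOfFiniteType (𝟙 SC))
  rw [isSeparated_iff (X ↘ SC)]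
  let y₀ : Pts SC := ⟨𝟙 SC, Category.id_comp _⟩
  have hconst : Pts.map (X ↘ SC) = fun _ => y₀ := by
    funext x
    exact Subtype.ext x.2
  rw [hconst]
  exact (t2space_iff_isSeparatedMap y₀).symm

end Groth.Agent.Lib.Helper19.AnB
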