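import Groth.Agent.Lib.Helper19.An.Connected
import Groth.Agent.Lib.Helper19.An.Etale
import Groth.Agent.Lib.Helper19.An.Separated
import Groth.Agent.Lib.Helper19.An.Pullback
import Mathlib.AlgebraicGeometry.Morphisms.FlatMono
import Mathlib.AlgebraicGeometry.Morphisms.IsIso

set_option autoImplicit false
set_option linter.style.haveILetI false
open CategoryTheory AlgebraicGeometry Topology TopologicalSpace Limits
open An

namespace Groth.Agent.Lib.Helper19.AnB

section

variable {X : Scheme.{0}} [X.Over SC]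

/-- An open subset containing all complex points is everything. -/
lemma eq_univ_of_forall_pt_mem [LocallyOfFiniteType (X ↘ SC)] {W : Set X} (hW : IsOpen W)
    (h : ∀ z : Pts X, z.pt ∈ W) : W = Set.univ := by
  by_contra hne
  have hne' : (Wᶜ).Nonempty := by
    rw [Set.nonempty_compl]
    exact hne
  obtain ⟨z, hz⟩ := exists_pt_mem_of_isClosed hW.isClosed_compl hne'
  exact hz (h z)

/-- An open immersion whose range contains all complex points is an isomorphism. -/
lemma isIso_of_isOpenImmersion_of_forall_pt_mem [LocallyOfFiniteType (X ↘ SC)] {T : Scheme.{0}}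
    (p : T ⟶ X) [IsOpenImmersion p] (h : ∀ z : Pts X, z.pt ∈ Set.range p) : IsIso p := by
  have hp : Set.range p = Set.univ :=
    eq_univ_of_forall_pt_mem p.isOpenEmbedding.isOpen_range h
  haveI : Surjective p := ⟨fun x => by
    have : x ∈ Set.range p := hp ▸ Set.mem_univ x
    exact this⟩
  exact (isIso_iff_isOpenImmersion_and_surjective _).mpr ⟨inferInstance, inferInstance⟩

end

section faithful

variable {U V X : Scheme.{0}} [U.Over SC] [LocallyOfFiniteType (U ↘ SC)]

/-- Two morphisms to a scheme with open diagonal over `X` agreeing on complex points are equal. -/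
theorem eq_of_forall_pts_eq (f g : U ⟶ V) (s : V ⟶ X) [IsOpenImmersion (pullback.diagonal s)]
    (hfg : f ≫ s = g ≫ s) (h : ∀ u : Pts U, u.1 ≫ f = u.1 ≫ g) : f = g := by
  let k : U ⟶ pullback s s := pullback.lift f g hfg
  have hk1 : k ≫ pullback.fst s s = f := pullback.lift_fst _ _ _
  have hk2 : k ≫ pullback.snd s s = g := pullback.lift_snd _ _ _
  have hsnd : IsIso (pullback.snd (pullback.diagonal s) k) := by
    apply isIso_of_isOpenImmersion_of_forall_pt_mem
    intro u
    have hu : (u.1 ≫ f) ≫ pullback.diagonal s = u.1 ≫ k := by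
      apply pullback.hom_ext
      · rw [Category.assoc, Category.assoc, Category.assoc, hk1, pullback.diagonal_fst,
          Category.comp_id]
      · rw [Category.assoc, Category.assoc, Category.assoc, hk2, pullback.diagonal_snd,
          Category.comp_id, h u]
    have : u.1 = pullback.lift (u.1 ≫ f) u.1 hu ≫ pullback.snd (pullback.diagonal s) k := by
      rw [pullback.lift_snd]
    change u.1 cpt ∈ _
    rw [this, Scheme.Hom.comp_apply]
    exact ⟨_, rfl⟩
  rw [← cancel_epi (pullback.snd (pullback.diagonal s) k)]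
  have h1 : pullback.snd (pullback.diagonal s) k ≫ f =
      pullback.fst (pullback.diagonal s) k := by
    rw [← hk1, ← pullback.condition_assoc, pullback.diagonal_fst, Category.comp_id]
  have h2 : pullback.snd (pullback.diagonal s) k ≫ g =
      pullback.fst (pullback.diagonal s) k := by
    rw [← hk2, ← pullback.condition_assoc, pullback.diagonal_snd, Category.comp_id]
  rw [h1, h2]

end faithful

section iso

variable {T U : Scheme.{0}} [T.Over SC] [U.Over SC] [LocallyOfFiniteType (U ↘ SC)]

/-- An étale morphism that is bijective on complex points is an isomorphism. -/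
theorem isIso_of_bijective_on_pts (p : T ⟶ U) [p.IsOver SC] [Etale p]
    (hinj : ∀ t₁ t₂ : Pts T, Pts.map p t₁ = Pts.map p t₂ → t₁ = t₂)
    (hsurj : ∀ u : Pts U, ∃ t : Pts T, Pts.map p t = u) : IsIso p := by
  haveI : LocallyOfFiniteType (T ↘ SC) := by
    rw [← comp_over p SC]; infer_instance
  haveI : LocallyOfFiniteType (pullback p p ↘ SC) := by
    change LocallyOfFiniteType (pullback.fst p p ≫ T ↘ SC); infer_instance
  haveI : IsOpenImmersion (pullback.diagonal p) := inferInstance
  haveI : IsIso (pullback.diagonal p) := by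
    apply isIso_of_isOpenImmersion_of_forall_pt_mem
    intro z
    have h12 := hinj _ _ (Pts.map_pullback_condition p p z)
    have h12' : z.1 ≫ pullback.fst p p = z.1 ≫ pullback.snd p p := congrArg Subtype.val h12
    have hz : z.1 = (z.1 ≫ pullback.fst p p) ≫ pullback.diagonal p := by
      apply pullback.hom_ext
      · simp
      · simp [h12']
    change z.1 cpt ∈ _
    rw [hz, Scheme.Hom.comp_apply]
    exact ⟨_, rfl⟩
  haveI : Mono p := (pullback.isIso_diagonal_iff p).mp inferInstance
  haveI : IsOpenImmersion p := IsOpenImmersion.of_flat_of_mono p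
  apply isIso_of_isOpenImmersion_of_forall_pt_mem
  intro u
  obtain ⟨t, rfl⟩ := hsurj u
  rw [Pts.pt_map]
  exact ⟨_, rfl⟩

end iso

section full

variable {X U V : Scheme.{0}} [X.Over SC] [U.Over SC] [V.Over SC] [LocallyOfFiniteType (X ↘ SC)]

/-- A continuous map `U(ℂ) → V(ℂ)` over `X(ℂ)` between étale `X`-schemes, with `V` separated over
`X`, is induced by a morphism of `X`-schemes. -/
theorem exists_hom_of_continuous (a : U ⟶ X) (b : V ⟶ X) [a.IsOver SC] [b.IsOver SC] [Etale a]
    [Etale b] [IsSeparated b] (φ : Pts U → Pts V) (hφ : Continuous φ)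
    (hover : ∀ u, Pts.map b (φ u) = Pts.map a u) :
    ∃ ψ : U ⟶ V, ψ ≫ b = a ∧ ∀ u : Pts U, (φ u).1 = u.1 ≫ ψ := by
  haveI : LocallyOfFiniteType (U ↘ SC) := by rw [← comp_over a SC]; infer_instance
  haveI : LocallyOfFiniteType (V ↘ SC) := by rw [← comp_over b SC]; infer_instance
  haveI : LocallyOfFiniteType (pullback a b ↘ SC) := by
    change LocallyOfFiniteType (pullback.fst a b ≫ U ↘ SC); infer_instance
  let M : Set (Pts (pullback a b)) :=
    {w | φ (Pts.map (pullback.fst a b) w) = Pts.map (pullback.snd a b) w}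
  have hcomp : Pts.map b ∘ (φ ∘ Pts.map (pullback.fst a b)) =
      Pts.map b ∘ Pts.map (pullback.snd a b) := by
    funext w
    simp only [Function.comp_apply]
    rw [hover, Pts.map_pullback_condition]
  have hsep : IsSeparatedMap (Pts.map b) := (isSeparated_iff b).mp inferInstance
  have hlinj : IsLocallyInjective (Pts.map b) :=
    (isLocalHomeomorph_map_of_etale b).isLocallyInjective
  have hM : IsClopen M :=
    ⟨hsep.isClosed_eqLocus (hφ.comp (Pts.continuous_map _)) (Pts.continuous_map _) hcomp,
      hlinj.isOpen_eqLocus (hφ.comp (Pts.continuous_map _)) (Pts.continuous_map _) hcomp⟩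
  obtain ⟨T₀, hT₀, hTM⟩ := exists_isClopen_of_isClopen M hM
  let T : (pullback a b).Opens := ⟨T₀, hT₀.2⟩
  letI : (T : Scheme.{0}).Over SC := ⟨T.ι ≫ pullback a b ↘ SC⟩
  haveI : T.ι.IsOver SC := ⟨rfl⟩
  let p : (T : Scheme.{0}) ⟶ U := T.ι ≫ pullback.fst a b
  haveI : p.IsOver SC := inferInstance
  haveI : Etale p := inferInstance
  have hmemT : ∀ w : Pts (pullback a b), w.pt ∈ T ↔
      φ (Pts.map (pullback.fst a b) w) = Pts.map (pullback.snd a b) w := fun w => by
    have : w ∈ Pts.pt ⁻¹' T₀ ↔ w ∈ M := by rw [hTM]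
    exact this
  have hw : ∀ t : Pts (T : Scheme.{0}), φ (Pts.map (pullback.fst a b) (Pts.map T.ι t)) =
      Pts.map (pullback.snd a b) (Pts.map T.ι t) := fun t =>
    (hmemT _).mp (by rw [Pts.pt_map]; exact (t.pt).2)
  have hinj : ∀ t₁ t₂ : Pts (T : Scheme.{0}), Pts.map p t₁ = Pts.map p t₂ → t₁ = t₂ := by
    intro t₁ t₂ h
    have h1 : Pts.map (pullback.fst a b) (Pts.map T.ι t₁) =
        Pts.map (pullback.fst a b) (Pts.map T.ι t₂) := by
      rw [← Pts.map_comp, ← Pts.map_comp]; exact h
    have h2 : Pts.map (pullback.snd a b) (Pts.map T.ι t₁) =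
        Pts.map (pullback.snd a b) (Pts.map T.ι t₂) := by
      rw [← hw, ← hw, h1]
    have h3 : Pts.map T.ι t₁ = Pts.map T.ι t₂ :=
      (pullbackComparison_bijective a b).1 (Subtype.ext (Prod.ext h1 h2))
    exact map_injective_of_mono T.ι h3
  have hsurj : ∀ u : Pts U, ∃ t : Pts (T : Scheme.{0}), Pts.map p t = u := by
    intro u
    obtain ⟨w, hw'⟩ := (pullbackComparison_bijective a b).2 ⟨(u, φ u), (hover u).symm⟩
    have hw1 : Pts.map (pullback.fst a b) w = u := congrArg (fun q => q.1.1) hw'
    have hw2 : Pts.map (pullback.snd a b) w = φ u := congrArg (fun q => q.1.2) hw'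
    have hwT : w.pt ∈ T := (hmemT w).mpr (by rw [hw1, hw2])
    have : w ∈ Set.range (Pts.map T.ι) := by
      rw [range_map_of_isOpenImmersion]
      change w.pt ∈ Set.range T.ι
      rw [Scheme.Opens.range_ι]
      exact hwT
    obtain ⟨t, rfl⟩ := this
    exact ⟨t, by rw [Pts.map_comp]; exact hw1⟩
  haveI : IsIso p := isIso_of_bijective_on_pts p hinj hsurj
  refine ⟨inv p ≫ T.ι ≫ pullback.snd a b, ?_, ?_⟩
  · rw [Category.assoc, Category.assoc, ← pullback.condition, ← Category.assoc T.ι]
    change inv p ≫ p ≫ a = a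
    rw [IsIso.inv_hom_id_assoc]
  · intro u
    obtain ⟨t, rfl⟩ := hsurj u
    have h1 : φ (Pts.map p t) = Pts.map (pullback.snd a b) (Pts.map T.ι t) := by
      rw [← hw t, ← Pts.map_comp]
    rw [h1]
    change (t.1 ≫ T.ι) ≫ pullback.snd a b = (t.1 ≫ p) ≫ inv p ≫ T.ι ≫ pullback.snd a b
    rw [Category.assoc, Category.assoc, IsIso.hom_inv_id_assoc]

end full

end Groth.Agent.Lib.Helper19.AnB
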