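import Groth.Prelude.Def_AnHol
import Groth.Agent.Lib.Helper19.An.Generators
import Groth.Agent.Lib.Helper19.An.Cont
import Mathlib.Analysis.Calculus.FDeriv.Mul
import Mathlib.Analysis.Calculus.FDeriv.Pi
import Mathlib.Analysis.Calculus.Deriv.Inv

set_option autoImplicit false
set_option linter.style.haveILetI false
open CategoryTheory AlgebraicGeometry Topology TopologicalSpace
open An

namespace Groth.Agent.Lib.Helper19.AnB

section poly

variable {n : ℕ}

lemma differentiable_mvPolynomial_eval (P : MvPolynomial (Fin n) ℂ) :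
    Differentiable ℂ (fun z : Fin n → ℂ => MvPolynomial.eval z P) := by
  induction P using MvPolynomial.induction_on with
  | C a =>
    have : (fun z : Fin n → ℂ => MvPolynomial.eval z (MvPolynomial.C a)) = fun _ => a := by
      funext z; simp
    rw [this]
    exact differentiable_const a
  | add p q hp hq =>
    have : (fun z : Fin n → ℂ => MvPolynomial.eval z (p + q)) =
        fun z => MvPolynomial.eval z p + MvPolynomial.eval z q := by
      funext z; simp
    rw [this]
    exact hp.fun_add hq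
  | mul_X p i hp =>
    have h1 : Differentiable ℂ (fun z : Fin n → ℂ => z i) := differentiable_apply i
    have : (fun z : Fin n → ℂ => MvPolynomial.eval z (p * MvPolynomial.X i)) =
        fun z => MvPolynomial.eval z p * z i := by
      funext z; simp
    rw [this]
    exact hp.fun_mul h1

end poly

section affine

variable {X : Scheme.{0}} [X.Over SC]

/-- On an affine scheme, a section over an open is locally a quotient of global sections. -/
lemma exists_ev_mul_pow_eq [IsAffine X] (W : X.Opens) (g : Γ(X, W)) (x : Pts X)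
    (hx : x.pt ∈ W) :
    ∃ (e b : Γ(X, ⊤)) (k : ℕ) (hle : X.basicOpen e ≤ W), x.pt ∈ X.basicOpen e ∧
      ∀ (x' : Pts X) (h : x'.pt ∈ X.basicOpen e),
        x'.ev W (hle h) g * (x'.evTop e) ^ k = x'.evTop b := by
  have hU : IsAffineOpen (⊤ : X.Opens) := isAffineOpen_top X
  obtain ⟨e, heW, hze⟩ := hU.exists_basicOpen_le ⟨x.pt, hx⟩ (Opens.mem_top _)
  haveI := hU.isLocalization_basicOpen e
  have hle : X.basicOpen e ≤ ⊤ := le_top
  obtain ⟨⟨b, ⟨_, k, rfl⟩⟩, hb⟩ := IsLocalization.surj (Submonoid.powers e)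
    (X.presheaf.map (homOfLE heW).op g)
  refine ⟨e, b, k, heW, hze, ?_⟩
  intro x' hx'e
  have h1 := congrArg (evRingHom x' (X.basicOpen e) hx'e) hb
  simp only [map_mul, map_pow] at h1
  have h2 : ∀ c : Γ(X, ⊤), evRingHom x' (X.basicOpen e) hx'e
      (algebraMap Γ(X, ⊤) Γ(X, X.basicOpen e) c) = x'.ev ⊤ (hle hx'e) c :=
    fun c => ev_res x' hle hx'e c
  have h3 : evRingHom x' (X.basicOpen e) hx'e (X.presheaf.map (homOfLE heW).op g) =
      x'.ev W (heW hx'e) g := ev_res x' heW hx'e g
  rw [h2, h2, h3] at h1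
  exact h1

end affine

section affineSpace

variable (n : ℕ)

lemma aeval_coord_bijective :
    Function.Bijective (MvPolynomial.aeval (AffineSpace.coord SC) :
      MvPolynomial (Fin n) ℂ →ₐ[ℂ] Γ(𝔸(Fin n; SC), ⊤)) := by
  have hbij : Function.Bijective
      (MvPolynomial.eval₂Hom (strHom (𝔸(Fin n; SC))) (AffineSpace.coord SC)) := by
    have h := AffineSpace.SpecIso_hom_appTop (n := Fin n) (CommRingCat.of ℂ)
    have h2 : CommRingCat.ofHom
        (MvPolynomial.eval₂Hom (strHom (𝔸(Fin n; SC))) (AffineSpace.coord SC)) =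
        (Scheme.ΓSpecIso _).inv ≫ (AffineSpace.SpecIso (Fin n) (CommRingCat.of ℂ)).hom.appTop := by
      rw [h, Iso.inv_hom_id_assoc]
      rfl
    have hiso : IsIso (CommRingCat.ofHom
        (MvPolynomial.eval₂Hom (strHom (𝔸(Fin n; SC))) (AffineSpace.coord SC))) := by
      rw [h2]
      haveI : IsIso (AffineSpace.SpecIso (Fin n) (CommRingCat.of ℂ)).hom.appTop := by
        change IsIso ((AffineSpace.SpecIso (Fin n) (CommRingCat.of ℂ)).hom.app ⊤)
        infer_instance
      infer_instance
    exact ConcreteCategory.bijective_of_isIso (CommRingCat.ofHom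
        (MvPolynomial.eval₂Hom (strHom (𝔸(Fin n; SC))) (AffineSpace.coord SC)))
  exact hbij

/-- The coordinate homeomorphism of the complex points of affine space. -/
noncomputable def coordHomeo : Pts (𝔸(Fin n; SC)) ≃ₜ (Fin n → ℂ) :=
  (affineSpace_isHomeomorph n).homeomorph

lemma coordHomeo_apply (x : Pts (𝔸(Fin n; SC))) (i : Fin n) :
    coordHomeo n x i = x.evTop (AffineSpace.coord SC i) := rfl

lemma evTop_eq_eval (x : Pts (𝔸(Fin n; SC))) (P : MvPolynomial (Fin n) ℂ) :
    x.evTop (MvPolynomial.aeval (AffineSpace.coord SC) P) =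
      MvPolynomial.eval (coordHomeo n x) P := by
  have := CP.apply_aeval (AffineSpace.coord SC) (evAlgHom x) P
  exact this

/-- Regular functions on Zariski opens of affine space are holomorphic in the coordinates. -/
theorem differentiableAt_evD (W : (𝔸(Fin n; SC)).Opens) (s : Γ(𝔸(Fin n; SC), W))
    (x₀ : Pts (𝔸(Fin n; SC))) (hx₀ : x₀.pt ∈ W) :
    DifferentiableAt ℂ (fun z => evD W s ((coordHomeo n).symm z)) (coordHomeo n x₀) := by
  obtain ⟨e, b, k, hle, hx₀e, hkey⟩ := exists_ev_mul_pow_eq W s x₀ hx₀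
  obtain ⟨Pe, rfl⟩ := (aeval_coord_bijective n).2 e
  obtain ⟨Pb, rfl⟩ := (aeval_coord_bijective n).2 b
  set e' := MvPolynomial.aeval (AffineSpace.coord SC) Pe with he'
  have hne : MvPolynomial.eval (coordHomeo n x₀) Pe ≠ 0 := by
    rw [← evTop_eq_eval]
    exact (mem_basicOpen_iff_ev_ne_zero x₀ ⊤ (Opens.mem_top _) e').mp hx₀e
  have hdiff : DifferentiableAt ℂ
      (fun z : Fin n → ℂ => MvPolynomial.eval z Pb / (MvPolynomial.eval z Pe) ^ k)
      (coordHomeo n x₀) := by
    have hb : DifferentiableAt ℂ (fun z : Fin n → ℂ => MvPolynomial.eval z Pb)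
        (coordHomeo n x₀) := (differentiable_mvPolynomial_eval Pb).differentiableAt
    have he : DifferentiableAt ℂ (fun z : Fin n → ℂ => (MvPolynomial.eval z Pe) ^ k)
        (coordHomeo n x₀) := ((differentiable_mvPolynomial_eval Pe).differentiableAt).fun_pow k
    have hinv : DifferentiableAt ℂ (fun z : Fin n → ℂ => ((MvPolynomial.eval z Pe) ^ k)⁻¹)
        (coordHomeo n x₀) :=
      (differentiableAt_inv (pow_ne_zero k hne)).comp (coordHomeo n x₀) he
    have := hb.fun_mul hinv
    simpa only [div_eq_mul_inv] using this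
  refine hdiff.congr_of_eventuallyEq ?_
  have hopen : IsOpen ((coordHomeo n) '' (Pts.pt ⁻¹'
      ((𝔸(Fin n; SC)).basicOpen e' : Set (𝔸(Fin n; SC))))) :=
    (coordHomeo n).isOpenMap _ (Pts.isOpen_preimage_pt _)
  filter_upwards [hopen.mem_nhds ⟨x₀, hx₀e, rfl⟩] with z hz
  obtain ⟨x', hx', rfl⟩ := hz
  rw [Homeomorph.symm_apply_apply, evD_of_mem s (hle hx')]
  have h1 := hkey x' hx'
  rw [evTop_eq_eval, evTop_eq_eval] at h1
  have hne' : MvPolynomial.eval (coordHomeo n x') Pe ≠ 0 := by
    rw [← evTop_eq_eval]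
    exact (mem_basicOpen_iff_ev_ne_zero x' ⊤ (Opens.mem_top _) e').mp hx'
  rw [eq_div_iff (pow_ne_zero k hne'), h1]

end affineSpace

section main

variable (n : ℕ)

open Classical in
/-- Extension by zero, in coordinates, of a function on an open set of points of affine space. -/
noncomputable def extZ (V : Opens (top (𝔸(Fin n; SC)))) (f : V → ℂ) (z : Fin n → ℂ) : ℂ :=
  if h : (coordHomeo n).symm z ∈ V then f ⟨(coordHomeo n).symm z, h⟩ else 0

lemma extZ_apply (V : Opens (top (𝔸(Fin n; SC)))) (f : V → ℂ) (x : Pts (𝔸(Fin n; SC)))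
    (hx : x ∈ V) : extZ n V f (coordHomeo n x) = f ⟨x, hx⟩ := by
  unfold extZ
  have h : (coordHomeo n).symm (coordHomeo n x) ∈ V := by
    rw [Homeomorph.symm_apply_apply]; exact hx
  rw [dif_pos h]
  congr 1
  exact Subtype.ext ((coordHomeo n).symm_apply_apply x)

lemma isOpen_image_coordHomeo (V : Opens (top (𝔸(Fin n; SC)))) :
    IsOpen (coordHomeo n '' V.1) :=
  (coordHomeo n).isOpenMap _ V.2

theorem differentiableAt_extZ_of_chartAlg (V : Opens (top (𝔸(Fin n; SC)))) (f : V → ℂ)
    (hf : f ∈ chartAlg V) (x₀ : Pts (𝔸(Fin n; SC))) (hx₀ : x₀ ∈ V) :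
    DifferentiableAt ℂ (extZ n V f) (coordHomeo n x₀) := by
  have hnhds : coordHomeo n '' V.1 ∈ 𝓝 (coordHomeo n x₀) :=
    (isOpen_image_coordHomeo n V).mem_nhds ⟨x₀, hx₀, rfl⟩
  induction hf using Algebra.adjoin_induction with
  | mem g hg =>
    obtain ⟨W, hW, m, s, V', G, hV', hG, h⟩ := hg
    have hmem : (fun i => evD W (s i) ((coordHomeo n).symm (coordHomeo n x₀))) ∈ V' := by
      have := (h ⟨x₀, hx₀⟩).1
      convert this using 2 with i
      rw [Homeomorph.symm_apply_apply]
      exact evD_of_mem (s i) (hW ⟨x₀, hx₀⟩)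
    have hcomp : DifferentiableAt ℂ
        (fun z => G (fun i => evD W (s i) ((coordHomeo n).symm z))) (coordHomeo n x₀) := by
      refine DifferentiableAt.comp (coordHomeo n x₀)
        (g := G) (f := fun z i => evD W (s i) ((coordHomeo n).symm z))
        ((hG _ hmem).differentiableAt (hV'.mem_nhds hmem)) ?_
      rw [differentiableAt_pi]
      intro i
      exact differentiableAt_evD n W (s i) x₀ (hW ⟨x₀, hx₀⟩)
    refine hcomp.congr_of_eventuallyEq ?_
    filter_upwards [hnhds] with z hz
    obtain ⟨x, hx, rfl⟩ := hz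
    rw [extZ_apply n V g x hx, (h ⟨x, hx⟩).2]
    congr 1
    funext i
    rw [Homeomorph.symm_apply_apply]
    exact (evD_of_mem (s i) (hW ⟨x, hx⟩)).symm
  | algebraMap c =>
    refine (differentiableAt_const c).congr_of_eventuallyEq ?_
    filter_upwards [hnhds] with z hz
    obtain ⟨x, hx, rfl⟩ := hz
    rw [extZ_apply n V _ x hx]
    rfl
  | add f g _ _ hf hg =>
    have : extZ n V (f + g) = fun z => extZ n V f z + extZ n V g z := by
      funext z
      unfold extZ
      by_cases h : (coordHomeo n).symm z ∈ V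
      · rw [dif_pos h, dif_pos h, dif_pos h]; rfl
      · rw [dif_neg h, dif_neg h, dif_neg h, add_zero]
    rw [this]
    exact hf.fun_add hg
  | mul f g _ _ hf hg =>
    have : extZ n V (f * g) = fun z => extZ n V f z * extZ n V g z := by
      funext z
      unfold extZ
      by_cases h : (coordHomeo n).symm z ∈ V
      · rw [dif_pos h, dif_pos h, dif_pos h]; rfl
      · rw [dif_neg h, dif_neg h, dif_neg h, mul_zero]
    rw [this]
    exact hf.fun_mul hg

/-- Holomorphic functions on opens of the points of affine space are exactly the functions that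
are complex differentiable in the coordinates. -/
theorem holPred_affineSpace_iff (U : Opens (Pts (𝔸(Fin n; SC)))) (g : U → ℂ) :
    (holPred (𝔸(Fin n; SC))).pred g ↔
      ∃ G : (Fin n → ℂ) → ℂ,
        DifferentiableOn ℂ G ((fun (x : Pts (𝔸(Fin n; SC))) (i : Fin n) =>
          x.evTop (AffineSpace.coord SC i)) '' (U : Set (Pts (𝔸(Fin n; SC))))) ∧
        ∀ x : U, g x = G (fun i => (x : Pts (𝔸(Fin n; SC))).evTop (AffineSpace.coord SC i)) := by
  constructor
  · intro hg
    refine ⟨extZ n U g, ?_, fun x => (extZ_apply n U g x.1 x.2).symm⟩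
    rintro _ ⟨x₀, hx₀, rfl⟩
    obtain ⟨V, hx₀V, i, hV⟩ := hg ⟨x₀, hx₀⟩
    have h1 := differentiableAt_extZ_of_chartAlg n V _ hV x₀ hx₀V
    refine (h1.congr_of_eventuallyEq ?_).differentiableWithinAt
    filter_upwards [(isOpen_image_coordHomeo n V).mem_nhds ⟨x₀, hx₀V, rfl⟩] with z hz
    obtain ⟨x, hx, rfl⟩ := hz
    have hxU : x ∈ U := i.le hx
    exact (extZ_apply n U g x hxU).trans (extZ_apply n V (fun y => g (i y)) x hx).symm
  · rintro ⟨G, hG, hg⟩
    apply holPred_of_chartAlg
    apply Algebra.subset_adjoin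
    refine ⟨⊤, fun _ => Opens.mem_top _, n, AffineSpace.coord SC,
      coordHomeo n '' U.1, G, isOpen_image_coordHomeo n U, hG, ?_⟩
    intro x
    exact ⟨⟨x.1, x.2, rfl⟩, hg x⟩

end main

end Groth.Agent.Lib.Helper19.AnB
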