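import Groth.Agent.Lib.Helper19.An.ClosedImm
import Mathlib.AlgebraicGeometry.Morphisms.Immersion
import Mathlib.Topology.LocallyClosed

set_option autoImplicit false
open CategoryTheory AlgebraicGeometry Topology TopologicalSpace
open An

namespace Groth.Agent.Lib.Helper19.AnB

variable {X Y : Scheme.{0}} [X.Over SC] [Y.Over SC]

theorem isEmbedding_map_and_isLocallyClosed_range (f : X ⟶ Y) [f.IsOver SC] [IsImmersion f] :
    IsEmbedding (Pts.map f) ∧ IsLocallyClosed (Set.range (Pts.map f)) := by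
  letI : (f.coborderRange : Scheme.{0}).Over SC := ⟨f.coborderRange.ι ≫ Y ↘ SC⟩
  haveI h1 : f.coborderRange.ι.IsOver SC := ⟨rfl⟩
  haveI h2 : f.liftCoborder.IsOver SC :=
    ⟨by
      change f.liftCoborder ≫ f.coborderRange.ι ≫ Y ↘ SC = X ↘ SC
      rw [Scheme.Hom.liftCoborder_ι_assoc, comp_over f]⟩
  have hcomp : Pts.map f = Pts.map f.coborderRange.ι ∘ Pts.map f.liftCoborder := by
    funext x
    apply Subtype.ext
    change x.1 ≫ f = (x.1 ≫ f.liftCoborder) ≫ f.coborderRange.ι
    rw [Category.assoc, Scheme.Hom.liftCoborder_ι]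
  have ho := isOpenEmbedding_map f.coborderRange.ι
  have hc := isClosedEmbedding_map f.liftCoborder
  rw [hcomp]
  refine ⟨ho.isEmbedding.comp hc.isEmbedding, ?_⟩
  rw [Set.range_comp]
  exact hc.isClosed_range.isLocallyClosed.image ho.isInducing ho.isOpen_range.isLocallyClosed

end Groth.Agent.Lib.Helper19.AnB
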