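import Groth.Agent.Lib.Helper19.An.SpecC
import Groth.Agent.Lib.Helper19.An.FullFaithful

/-!
# Continuous roots of regular functions are regular

If `u` is an element of a finitely generated `ℂ`-algebra `R` and `w` is a continuous nowhere
vanishing function on the complex points of `R` with `w ^ N = u`, then `w` is (the function of) an
element of `R`.  This is full faithfulness of `ε` applied to the finite étale cover
`R[X, X⁻¹]/(X ^ N - u)`.
-/

set_option autoImplicit false
set_option linter.style.haveILetI false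
open CategoryTheory AlgebraicGeometry Topology TopologicalSpace
open An

namespace Groth.Agent.Lib.Helper19.AnB

attribute [local instance] CP.top

open Polynomial

section

variable {R : Type} [CommRing R] [Algebra ℂ R]

/-- The standard étale pair of the `N`-th root cover of `u`. -/
noncomputable def rootPair (u : R) (N : ℕ) (hN : 0 < N) : StandardEtalePair R where
  f := X ^ N - C u
  monic_f := monic_X_pow_sub_C u hN.ne'
  g := X
  cond := ⟨C (algebraMap ℂ R (1 / N)) * X, 0, N, by
    have h1 : (N : R) * algebraMap ℂ R (1 / N) = 1 := by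
      rw [← map_natCast (algebraMap ℂ R), ← map_mul, mul_one_div_cancel, map_one]
      exact Nat.cast_ne_zero.mpr hN.ne'
    have h2 : (X : R[X]) ^ (N - 1) * X = X ^ N := pow_sub_one_mul hN.ne' _
    simp only [derivative_sub, derivative_X_pow, derivative_C, sub_zero, mul_zero, add_zero]
    calc C (N : R) * X ^ (N - 1) * (C (algebraMap ℂ R (1 / N)) * X)
        = C ((N : R) * algebraMap ℂ R (1 / N)) * (X ^ (N - 1) * X) := by rw [C_mul]; ring
      _ = X ^ N := by rw [h1, h2, C_1, one_mul]⟩

variable [Algebra.FiniteType ℂ R]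

theorem exists_eq_of_continuous_root (u : R) (N : ℕ) (hN : 0 < N) (w : (R →ₐ[ℂ] ℂ) → ℂ)
    (hw : Continuous w) (hpow : ∀ χ, w χ ^ N = χ u) (hne : ∀ χ, w χ ≠ 0) :
    ∃ v : R, ∀ χ : R →ₐ[ℂ] ℂ, χ v = w χ := by
  classical
  let P := rootPair u N hN
  letI : Algebra ℂ P.Ring := ((algebraMap R P.Ring).comp (algebraMap ℂ R)).toAlgebra
  haveI : IsScalarTower ℂ R P.Ring := IsScalarTower.of_algebraMap_eq' rfl
  haveI : Algebra.FiniteType ℂ P.Ring :=
    Algebra.FiniteType.trans (S := R) inferInstance inferInstance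
  let Pres : StandardEtalePresentation R P.Ring :=
    ⟨P, P.X, P.hasMap_X, by simpa [StandardEtalePair.lift_X_left] using Function.bijective_id⟩
  have hf : ∀ χ : R →ₐ[ℂ] ℂ, CP.pev Pres.f (χ, w χ) = 0 := by
    intro χ
    change CP.pev (X ^ N - C u) (χ, w χ) = 0
    simp [CP.pev, hpow]
  have hg : ∀ χ : R →ₐ[ℂ] ℂ, CP.pev Pres.g (χ, w χ) ≠ 0 := by
    intro χ
    change CP.pev X (χ, w χ) ≠ 0
    simpa [CP.pev] using hne χ
  choose σ hσ using fun χ => CP.exists_point_of_root Pres χ (w χ) (hf χ) (hg χ)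
  have hσc : Continuous σ := (CP.isInducing_stdE Pres).continuous_iff.mpr (by
    have : CP.stdE Pres ∘ σ = fun χ => (χ, w χ) := funext hσ
    rw [this]
    exact continuous_id.prodMk hw)
  let b : SpecC P.Ring ⟶ SpecC R := specCMap (IsScalarTower.toAlgHom ℂ R P.Ring)
  let φ : Pts (SpecC R) → Pts (SpecC P.Ring) := fun x => (ptHomeo P.Ring).symm (σ (ptHomeo R x))
  have hφ : Continuous φ :=
    (ptHomeo P.Ring).symm.continuous.comp (hσc.comp (ptHomeo R).continuous)
  have hover : ∀ x, Pts.map b (φ x) = Pts.map (𝟙 (SpecC R)) x := by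
    intro x
    rw [Pts.map_id]
    apply (ptHomeo R).injective
    rw [ptHomeo_map, Homeomorph.apply_symm_apply]
    exact congrArg Prod.fst (hσ (ptHomeo R x))
  obtain ⟨ψ, hψb, hψ⟩ := exists_hom_of_continuous (𝟙 (SpecC R)) b φ hφ hover
  haveI : ψ.IsOver SC := ⟨by rw [← comp_over b SC, ← Category.assoc, hψb, Category.id_comp]⟩
  refine ⟨(gammaEquiv R).symm (ψ.appTop (gammaEquiv P.Ring P.X)), fun χ => ?_⟩
  obtain ⟨x, rfl⟩ := (ptHomeo R).surjective χ
  have h1 : φ x = Pts.map ψ x := Subtype.ext (hψ x)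
  have h2 : ptHomeo P.Ring (φ x) P.X = w (ptHomeo R x) := by
    rw [Homeomorph.apply_symm_apply]
    exact congrArg Prod.snd (hσ _)
  rw [← h2, h1, ptHomeo_apply, ptHomeo_apply, ← evAlgHom_apply, ← evAlgHom_apply, evAlgHom_map,
    AlgHom.comp_apply, appTopAlgHom_apply, ← gammaEquiv_apply, ← gammaEquiv_apply,
    AlgEquiv.apply_symm_apply]

end

end Groth.Agent.Lib.Helper19.AnB
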