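import Groth.Agent.Lib.Helper19.An.NthRoot
import Groth.Agent.Lib.Helper19.An.Connected
import Groth.Agent.Lib.Helper19.Conn.FiniteValues
import Mathlib.Analysis.Complex.CoveringMap
import Mathlib.Topology.Homotopy.Lifting

/-!
# A null-homotopic regular map to `ℂˣ` from a connected variety is constant

If `u` is a nowhere vanishing regular function on `X` whose map `X(ℂ) → ℂˣ` is null-homotopic, then
`u` has a continuous logarithm, hence continuous `N`-th roots for all `N`; these are regular on
affine opens (full faithfulness of `ε` for the Kummer covers), so `u` is infinitely divisible on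
every irreducible component of every affine open, hence constant there by a growth argument.
-/

set_option autoImplicit false
set_option linter.style.haveILetI false
open CategoryTheory AlgebraicGeometry Topology TopologicalSpace
open An

namespace Groth.Agent.Lib.Helper19.AnB

attribute [local instance] CP.top

/-- A null-homotopic map to `ℂˣ` has a continuous logarithm. -/
lemma exists_continuous_log {T : Type*} [TopologicalSpace T] (φ : C(T, {z : ℂ // z ≠ 0}))
    (z₀ : {z : ℂ // z ≠ 0}) (hnull : φ.Homotopic (ContinuousMap.const T z₀)) :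
    ∃ ψ : T → ℂ, Continuous ψ ∧ ∀ t, Complex.exp (ψ t) = (φ t).1 := by
  obtain ⟨F⟩ := hnull.symm
  have hw₀ : Complex.exp (Complex.log z₀.1) = z₀.1 := Complex.exp_log z₀.2
  let L := Complex.isCoveringMap_exp.liftHomotopy F.toContinuousMap
    (ContinuousMap.const T (Complex.log z₀.1)) (fun a => by
      simp only [ContinuousMap.Homotopy.coe_toContinuousMap, ContinuousMap.Homotopy.apply_zero,
        ContinuousMap.const_apply]
      exact Subtype.ext hw₀.symm)
  refine ⟨fun t => L (1, t), L.continuous.comp (continuous_const.prodMk continuous_id),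
    fun t => ?_⟩
  have h := congrFun (Complex.isCoveringMap_exp.liftHomotopy_lifts F.toContinuousMap
    (ContinuousMap.const T (Complex.log z₀.1)) (fun a => by
      simp only [ContinuousMap.Homotopy.coe_toContinuousMap, ContinuousMap.Homotopy.apply_zero,
        ContinuousMap.const_apply]
      exact Subtype.ext hw₀.symm)) (1, t)
  have h2 : Complex.exp (L (1, t)) = (F.toContinuousMap (1, t)).1 := congrArg Subtype.val h
  rw [h2]
  simp

variable {X : Scheme.{0}} [X.Over SC] [LocallyOfFiniteType (X ↘ SC)]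

/-- A regular function with a continuous logarithm takes finitely many values on the complex
points of any affine open. -/
lemma finite_values_of_continuous_log (u : Γ(X, ⊤)) (ψ : Pts X → ℂ) (hψ : Continuous ψ)
    (hexp : ∀ x : Pts X, Complex.exp (ψ x) = x.evTop u) (U : X.Opens) (hU : IsAffineOpen U) :
    {z : ℂ | ∃ x : Pts X, x.pt ∈ U ∧ x.evTop u = z}.Finite := by
  letI : (U : Scheme.{0}).Over SC := ⟨U.ι ≫ X ↘ SC⟩
  haveI : U.ι.IsOver SC := ⟨rfl⟩
  haveI : IsAffine (U : Scheme.{0}) := hU
  haveI : LocallyOfFiniteType ((U : Scheme.{0}) ↘ SC) := by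
    change LocallyOfFiniteType (U.ι ≫ X ↘ SC)
    infer_instance
  haveI : Algebra.FiniteType ℂ Γ((U : Scheme.{0}), ⊤) := finiteType_Γ
  let a : Γ((U : Scheme.{0}), ⊤) := U.ι.appTop u
  have hev : ∀ y : Pts (U : Scheme.{0}), (Pts.map U.ι y).evTop u = y.evTop a := fun y => by
    rw [← evAlgHom_apply, evAlgHom_map]
    rfl
  have hdiv : ∀ N : ℕ, 0 < N → ∃ v : Γ((U : Scheme.{0}), ⊤),
      ∀ χ : Γ((U : Scheme.{0}), ⊤) →ₐ[ℂ] ℂ, χ v ^ N = χ a := by
    intro N hN
    let w : (Γ((U : Scheme.{0}), ⊤) →ₐ[ℂ] ℂ) → ℂ := fun χ =>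
      Complex.exp (ψ (Pts.map U.ι ((evHomeo (U : Scheme.{0})).symm χ)) / N)
    have hw : Continuous w := Complex.continuous_exp.comp
      ((hψ.comp ((Pts.continuous_map U.ι).comp (evHomeo (U : Scheme.{0})).symm.continuous)).div_const _)
    have hpow : ∀ χ, w χ ^ N = χ a := by
      intro χ
      obtain ⟨y, rfl⟩ := (evHomeo (U : Scheme.{0})).surjective χ
      simp only [w, Homeomorph.symm_apply_apply]
      rw [← Complex.exp_nat_mul, mul_div_cancel₀ _ (Nat.cast_ne_zero.mpr hN.ne'), hexp, hev]
      rfl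
    obtain ⟨v, hv⟩ := exists_eq_of_continuous_root a N hN w hw hpow
      (fun χ => Complex.exp_ne_zero _)
    exact ⟨v, fun χ => by rw [hv, hpow]⟩
  have hfin := Conn.finite_values_of_divisible a hdiv
  refine hfin.subset ?_
  rintro z ⟨x, hxU, rfl⟩
  obtain ⟨y, rfl⟩ : x ∈ Set.range (Pts.map U.ι) := by
    rw [range_map_of_isOpenImmersion]
    change x.pt ∈ Set.range U.ι
    rw [Scheme.Opens.range_ι]
    exact hxU
  exact ⟨evAlgHom y, (hev y).symm⟩

/-- A null-homotopic regular map from a connected complex variety to `ℂˣ` is constant. -/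
theorem evTop_eq_of_nullhomotopic [ConnectedSpace X] (u : Γ(X, ⊤))
    (φ : C(Pts X, {z : ℂ // z ≠ 0})) (hφ : ∀ x : Pts X, (φ x).1 = x.evTop u)
    (z₀ : {z : ℂ // z ≠ 0}) (hnull : φ.Homotopic (ContinuousMap.const (Pts X) z₀)) :
    ∀ x y : Pts X, x.evTop u = y.evTop u := by
  obtain ⟨ψ, hψ, hexp⟩ := exists_continuous_log φ z₀ hnull
  have hexp' : ∀ x : Pts X, Complex.exp (ψ x) = x.evTop u := fun x => (hexp x).trans (hφ x)
  have hlc : IsLocallyConstant (fun x : Pts X => x.evTop u) := by
    rw [IsLocallyConstant.iff_exists_open]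
    intro x
    obtain ⟨U, hU, hxU, -⟩ := exists_isAffineOpen_mem_and_subset (x := x.pt) (U := ⊤) trivial
    have hfin := finite_values_of_continuous_log u ψ hψ hexp' U hU
    have hF : IsClosed ({z : ℂ | ∃ x' : Pts X, x'.pt ∈ U ∧ x'.evTop u = z} \ {x.evTop u}) :=
      (hfin.subset Set.sdiff_subset).isClosed
    refine ⟨Pts.pt ⁻¹' (U : Set X) ∩ (fun x' : Pts X => x'.evTop u) ⁻¹'
      ({z : ℂ | ∃ x' : Pts X, x'.pt ∈ U ∧ x'.evTop u = z} \ {x.evTop u})ᶜ,
      (Pts.isOpen_preimage_pt U).inter (hF.isOpen_compl.preimage (continuous_evTop u)),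
      ⟨hxU, fun h => h.2 rfl⟩, ?_⟩
    rintro x' ⟨hx'U, hx'F⟩
    by_contra hne
    exact hx'F ⟨⟨x', hx'U, rfl⟩, hne⟩
  haveI : ConnectedSpace (Pts X) := connectedSpace_iff.mp inferInstance
  intro x y
  exact hlc.apply_eq_of_preconnectedSpace x y

end Groth.Agent.Lib.Helper19.AnB
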