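import Groth.Agent.Lib.Helper19.An.Basic

set_option autoImplicit false
open CategoryTheory AlgebraicGeometry Topology TopologicalSpace
open An

namespace Groth.Agent.Lib.Helper19.AnB

variable {X Y : Scheme.{0}} [X.Over SC] [Y.Over SC]

lemma map_injective_of_mono (f : X ⟶ Y) [f.IsOver SC] [Mono f] :
    Function.Injective (Pts.map f) := by
  intro x y h
  apply Subtype.ext
  have : x.1 ≫ f = y.1 ≫ f := congrArg Subtype.val h
  exact (cancel_mono f).mp this

lemma range_map_of_isOpenImmersion (f : X ⟶ Y) [f.IsOver SC] [IsOpenImmersion f] :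
    Set.range (Pts.map f) = Pts.pt ⁻¹' (Set.range f) := by
  ext y
  constructor
  · rintro ⟨x, rfl⟩
    rw [Set.mem_preimage, Pts.pt_map]
    exact ⟨_, rfl⟩
  · intro hy
    have hsub : Set.range y.1 ⊆ Set.range f := by
      rintro _ ⟨p, rfl⟩
      rw [eq_cpt p]
      exact hy
    refine ⟨⟨IsOpenImmersion.lift f y.1 hsub, ?_⟩, Subtype.ext (IsOpenImmersion.lift_fac _ _ _)⟩
    rw [← comp_over f, ← Category.assoc, IsOpenImmersion.lift_fac, y.2]

lemma isInducing_map_of_isOpenImmersion (f : X ⟶ Y) [f.IsOver SC] [IsOpenImmersion f] :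
    IsInducing (Pts.map f) := by
  refine ⟨le_antisymm (continuous_iff_le_induced.mp (Pts.continuous_map f)) ?_⟩
  refine le_generateFrom ?_
  rintro _ ⟨U, g, V, hV, rfl⟩
  rw [isOpen_induced_iff]
  let g' : Γ(Y, f ''ᵁ U) := (f.appIso U).inv g
  have hg : g = X.presheaf.map (homOfLE (f.preimage_image_eq U).ge).op (f.app (f ''ᵁ U) g') := by
    have h1 : (f.appIso U).hom g' = g := by
      change ((f.appIso U).inv ≫ (f.appIso U).hom) g = g
      rw [Iso.inv_hom_id]
      rfl
    rw [← h1, Scheme.Hom.appIso_hom']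
    rfl
  refine ⟨Pts.basicSet (f ''ᵁ U) g' V ∩ Pts.pt ⁻¹' ((f ''ᵁ U : Y.Opens) : Set Y),
    (Pts.isOpen_basicSet _ _ hV).inter (Pts.isOpen_preimage_pt _), ?_⟩
  rw [Set.preimage_inter, Pts.preimage_basicSet]
  conv_rhs => rw [hg, basicSet_res]
  congr 1
  ext x
  simp only [Set.mem_preimage, Pts.pt_map, SetLike.mem_coe]
  exact f.isOpenEmbedding.injective.mem_set_image

theorem isOpenEmbedding_map (f : X ⟶ Y) [f.IsOver SC] [IsOpenImmersion f] :
    IsOpenEmbedding (Pts.map f) := by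
  refine ⟨⟨isInducing_map_of_isOpenImmersion f, map_injective_of_mono f⟩, ?_⟩
  rw [range_map_of_isOpenImmersion]
  exact Pts.isOpen_preimage_pt f.opensRange

end Groth.Agent.Lib.Helper19.AnB
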