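import Groth.Prelude.Def_AnCl
import Mathlib.CategoryTheory.Sites.DenseSubsite.SheafEquiv

set_option autoImplicit false
set_option linter.style.haveILetI false

universe u

open CategoryTheory Topology TopologicalSpace Opposite
open An

namespace Groth.Agent.Lib.Helper19.OpensDense

lemma exists_isOpen_isOpenEmbedding_restrict {A B : Type*} [TopologicalSpace A]
    [TopologicalSpace B] {φ : A → B} (hφ : IsLocalHomeomorph φ) (z : A) :
    ∃ N : Set A, IsOpen N ∧ z ∈ N ∧ IsOpenEmbedding (N.restrict φ) := by
  obtain ⟨N', hN', hemb⟩ := isLocalHomeomorph_iff_isOpenEmbedding_restrict.mp hφ z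
  refine ⟨interior N', isOpen_interior, mem_interior_iff_mem_nhds.mpr hN', ?_⟩
  have hincl : IsOpenEmbedding (Set.inclusion (interior_subset : interior N' ⊆ N')) := by
    refine ⟨IsEmbedding.inclusion _, ?_⟩
    have : Set.range (Set.inclusion (interior_subset : interior N' ⊆ N')) =
        Subtype.val ⁻¹' (interior N') := by
      ext ⟨w, hw⟩
      simp [Set.range_inclusion]
    rw [this]
    exact isOpen_interior.preimage continuous_subtype_val
  exact hemb.comp hincl

variable (T : Type u) [TopologicalSpace T]

instance full_opensToCl : (opensToCl T).Full where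
  map_surjective {U V} f := by
    have hle : U ≤ V := fun x hx => by
      have h1 : (Subtype.val (f.toFun ⟨x, hx⟩ : V) : T) = x := f.over ⟨x, hx⟩
      have h2 : (Subtype.val (f.toFun ⟨x, hx⟩ : V) : T) ∈ V := Subtype.property (f.toFun ⟨x, hx⟩ : V)
      rw [← h1]
      exact h2
    exact ⟨homOfLE hle, Cl.hom_ext (funext fun a => Subtype.ext (f.over a).symm)⟩

instance faithful_opensToCl : (opensToCl T).Faithful where
  map_injective _ := Subsingleton.elim _ _

instance isCoverDense_opensToCl : (opensToCl T).IsCoverDense (Cl.topology T) where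
  is_cover A := by
    intro a
    obtain ⟨N, hN, haN, hemb⟩ := exists_isOpen_isOpenEmbedding_restrict A.lh a
    let W : Opens T := ⟨Set.range (N.restrict A.p), hemb.isOpen_range⟩
    let e : N ≃ₜ Set.range (N.restrict A.p) := hemb.isEmbedding.toHomeomorph
    have he : ∀ w : Set.range (N.restrict A.p), A.p (e.symm w).1 = w.1 := by
      intro w
      have := congrArg Subtype.val (e.apply_symm_apply w)
      rw [IsEmbedding.toHomeomorph_apply_coe] at this
      exact this
    let g : (opensToCl T).obj W ⟶ A :=
      ⟨fun w => (e.symm w).1, continuous_subtype_val.comp e.symm.continuous, fun w => he w⟩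
    refine ⟨(opensToCl T).obj W, g, Presieve.in_coverByImage _ g, ?_, ?_⟩
    · exact hN.isOpenEmbedding_subtypeVal.comp e.symm.isOpenEmbedding
    · refine ⟨e ⟨a, haN⟩, ?_⟩
      change (e.symm (e ⟨a, haN⟩)).1 = a
      rw [e.symm_apply_apply]

instance isDenseSubsite_opensToCl :
    (opensToCl T).IsDenseSubsite (Opens.grothendieckTopology T) (Cl.topology T) where
  functorPushforward_mem_iff {U S} := by
    constructor
    · intro h x hx
      obtain ⟨B, g, ⟨V, l, k, hl, rfl⟩, -, ⟨b, hb⟩⟩ := h ⟨x, hx⟩
      refine ⟨V, l, hl, ?_⟩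
      have h1 : (Subtype.val (k.toFun b : V) : T) = x := congrArg Subtype.val hb
      rw [← h1]
      exact Subtype.property (k.toFun b : V)
    · intro hS a
      obtain ⟨V, f, hSf, haV⟩ := hS a.1 a.2
      refine ⟨(opensToCl T).obj V, (opensToCl T).map f, ?_, ?_, ?_⟩
      · exact Sieve.image_mem_functorPushforward _ _ hSf
      · exact IsOpenEmbedding.inclusion f.le (V.2.preimage continuous_subtype_val)
      · exact ⟨⟨a.1, haV⟩, rfl⟩

theorem isEquivalence_resOpens [OpCont T] : (resOpens T).IsEquivalence :=
  inferInstanceAs ((opensToCl T).sheafPushforwardContinuous AddCommGrpCat.{u + 1}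
    (Opens.grothendieckTopology T) (Cl.topology T)).IsEquivalence

end Groth.Agent.Lib.Helper19.OpensDense
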