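import Groth.Agent.Lib.Helper19.An.Etale
import Groth.Agent.Lib.Helper19.An.Generators

/-!
# The affine scheme of a `ℂ`-algebra and its complex points

`SpecC A` is `Spec A` as a scheme over `Spec ℂ`; its space of complex points is identified with
`A →ₐ[ℂ] ℂ` with the weak topology.
-/

set_option autoImplicit false
set_option linter.style.haveILetI false
open CategoryTheory AlgebraicGeometry Topology TopologicalSpace
open An

namespace Groth.Agent.Lib.Helper19.AnB

attribute [local instance] CP.top

section SpecC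

variable (A : Type) [CommRing A] [Algebra ℂ A]

/-- The affine scheme of a `ℂ`-algebra. -/
noncomputable def SpecC : Scheme.{0} := Spec (CommRingCat.of A)

noncomputable instance specCOver : (SpecC A).Over SC :=
  ⟨Spec.map (CommRingCat.ofHom (algebraMap ℂ A))⟩

instance specC_isAffine : IsAffine (SpecC A) := by unfold SpecC; infer_instance

lemma specC_over_eq : (SpecC A ↘ SC) = Spec.map (CommRingCat.ofHom (algebraMap ℂ A)) := rfl

instance specC_lft [Algebra.FiniteType ℂ A] : LocallyOfFiniteType (SpecC A ↘ SC) := by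
  have h : LocallyOfFiniteType (Spec.map (CommRingCat.ofHom (algebraMap ℂ A))) := by
    rw [HasRingHomProperty.Spec_iff (P := @LocallyOfFiniteType)]
    exact RingHom.finiteType_algebraMap.mpr ‹Algebra.FiniteType ℂ A›
  exact h

/-- Global sections of `SpecC A`. -/
noncomputable def gammaEquiv : A ≃ₐ[ℂ] Γ(SpecC A, ⊤) :=
  { (Scheme.ΓSpecIso (CommRingCat.of A)).symm.commRingCatIsoToRingEquiv with
    commutes' := fun c => by
      have h := Scheme.ΓSpecIso_inv_naturality (CommRingCat.ofHom (algebraMap ℂ A))
      exact congrArg (fun f => f.hom c) h }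

@[simp] lemma gammaEquiv_apply (a : A) :
    gammaEquiv A a = (Scheme.ΓSpecIso (CommRingCat.of A)).inv a := rfl

end SpecC

section homeo

/-- Precomposition with an algebra isomorphism is a homeomorphism on complex points. -/
noncomputable def cpCongr {A B : Type} [CommRing A] [CommRing B] [Algebra ℂ A] [Algebra ℂ B]
    (e : A ≃ₐ[ℂ] B) : (B →ₐ[ℂ] ℂ) ≃ₜ (A →ₐ[ℂ] ℂ) where
  toFun ψ := ψ.comp e.toAlgHom
  invFun χ := χ.comp e.symm.toAlgHom
  left_inv ψ := by ext b; simp
  right_inv χ := by ext a; simp
  continuous_toFun := CP.continuous_iff.mpr fun a => CP.continuous_eval (e a)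
  continuous_invFun := CP.continuous_iff.mpr fun b => CP.continuous_eval (e.symm b)

/-- For an affine scheme of finite type over `ℂ`, the complex points are homeomorphic to the
space of characters of the coordinate ring. -/
noncomputable def evHomeo (X : Scheme.{0}) [X.Over SC] [IsAffine X]
    [LocallyOfFiniteType (X ↘ SC)] : Pts X ≃ₜ (Γ(X, ⊤) →ₐ[ℂ] ℂ) :=
  (Equiv.ofBijective evAlgHom ⟨evAlgHom_injective, evAlgHom_surjective⟩).toHomeomorphOfIsInducing
    isInducing_evAlgHom

@[simp] lemma evHomeo_apply (X : Scheme.{0}) [X.Over SC] [IsAffine X]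
    [LocallyOfFiniteType (X ↘ SC)] (x : Pts X) : evHomeo X x = evAlgHom x := rfl

variable (A : Type) [CommRing A] [Algebra ℂ A] [Algebra.FiniteType ℂ A]

/-- The complex points of `SpecC A` are the characters of `A`. -/
noncomputable def ptHomeo : Pts (SpecC A) ≃ₜ (A →ₐ[ℂ] ℂ) :=
  (evHomeo (SpecC A)).trans (cpCongr (gammaEquiv A))

variable {A}

lemma ptHomeo_apply (x : Pts (SpecC A)) (a : A) :
    ptHomeo A x a = x.evTop ((Scheme.ΓSpecIso (CommRingCat.of A)).inv a) := rfl

end homeo

section map

variable {A B : Type} [CommRing A] [CommRing B] [Algebra ℂ A] [Algebra ℂ B]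

/-- The morphism of affine schemes induced by an algebra homomorphism. -/
noncomputable def specCMap (f : A →ₐ[ℂ] B) : SpecC B ⟶ SpecC A :=
  Spec.map (CommRingCat.ofHom f.toRingHom)

instance specCMap_isOver (f : A →ₐ[ℂ] B) : (specCMap f).IsOver SC := ⟨by
  change Spec.map (CommRingCat.ofHom f.toRingHom) ≫ Spec.map (CommRingCat.ofHom (algebraMap ℂ A)) =
    Spec.map (CommRingCat.ofHom (algebraMap ℂ B))
  rw [← Spec.map_comp, ← CommRingCat.ofHom_comp]
  congr 2
  ext c
  simp⟩

lemma specCMap_appTop (f : A →ₐ[ℂ] B) (a : A) :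
    (specCMap f).appTop ((Scheme.ΓSpecIso (CommRingCat.of A)).inv a) =
      (Scheme.ΓSpecIso (CommRingCat.of B)).inv (f a) := by
  have h := Scheme.ΓSpecIso_inv_naturality (CommRingCat.ofHom f.toRingHom)
  exact (congrArg (fun g => g.hom a) h).symm

variable [Algebra.FiniteType ℂ A] [Algebra.FiniteType ℂ B]

lemma ptHomeo_map (f : A →ₐ[ℂ] B) (x : Pts (SpecC B)) :
    ptHomeo A (Pts.map (specCMap f) x) = (ptHomeo B x).comp f := by
  ext a
  rw [ptHomeo_apply, AlgHom.comp_apply, ptHomeo_apply, ← evAlgHom_apply, evAlgHom_map,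
    AlgHom.comp_apply, appTopAlgHom_apply, specCMap_appTop, evAlgHom_apply]

end map

section etale

variable {R S : Type} [CommRing R] [CommRing S] [Algebra ℂ R] [Algebra ℂ S] [Algebra R S]
  [IsScalarTower ℂ R S]

instance specCMap_etale [Algebra.Etale R S] : Etale (specCMap (IsScalarTower.toAlgHom ℂ R S)) := by
  have h : Etale (Spec.map (CommRingCat.ofHom (algebraMap R S))) := by
    rw [HasRingHomProperty.Spec_iff (P := @Etale)]
    exact RingHom.etale_algebraMap.mpr ‹Algebra.Etale R S›
  exact h

end etale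

end Groth.Agent.Lib.Helper19.AnB
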